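import Cfsg.Agent.SpecGL.PSLThree
import Cfsg.Agent.S2475
import Cfsg.Agent.Arith.Zsigmondy

/-! Adjacency in the prime graph of `PSL(n, q)`. -/

set_option autoImplicit false

open Polynomial Matrix

namespace Cfsg.Agent.SpecGL

open Cfsg.Agent.Spec (proj)

variable {F : Type*} [Field F] [Fintype F] {n : ℕ}

local notation "PSL'" => Matrix.ProjectiveSpecialLinearGroup (Fin n) F
local notation "M" => Matrix (Fin n) (Fin n) F

theorem not_dvd_card (p : ℕ) [Fact p.Prime] [CharP F p] {r : ℕ} (hr : r.Prime) (hrp : r ≠ p) :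
    ¬ r ∣ Fintype.card F ∧ (r : F) ≠ 0 := by
  obtain ⟨e, hp, he⟩ := FiniteField.card F p
  constructor
  · rw [he]
    exact fun h => hrp ((Nat.prime_dvd_prime_iff_eq hr hp).1 (hr.dvd_of_dvd_pow h))
  · intro h
    exact hrp ((Nat.prime_dvd_prime_iff_eq hp hr).1 ((CharP.cast_eq_zero_iff F p r).1 h)).symm

theorem orderOf_pos_of_not_dvd {r : ℕ} (hr : r.Prime) (h : ¬ r ∣ Fintype.card F) :
    0 < orderOf (Fintype.card F : ZMod r) ∧
      r ∣ Fintype.card F ^ orderOf (Fintype.card F : ZMod r) - 1 := by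
  haveI := Fact.mk hr
  have hne : (Fintype.card F : ZMod r) ≠ 0 := fun e => h ((ZMod.natCast_eq_zero_iff _ _).1 e)
  refine ⟨Nat.pos_of_ne_zero fun h0 => ?_, ?_⟩
  · have := orderOf_dvd_of_pow_eq_one (ZMod.pow_card_sub_one_eq_one hne)
    rw [h0, zero_dvd_iff] at this
    have := hr.two_le
    omega
  · exact (Arith.dvd_pow_sub_one_iff_orderOf_dvd Fintype.card_pos _).2 dvd_rfl

theorem coprime_sub_one {r : ℕ} (hr : r.Prime)
    (hk : 2 ≤ orderOf (Fintype.card F : ZMod r)) : r.Coprime (Fintype.card F - 1) := by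
  rw [hr.coprime_iff_not_dvd]
  intro h
  have h1 : (Fintype.card F : ZMod r) = 1 := by
    have h2 := (ZMod.natCast_eq_zero_iff _ r).2 h
    rwa [Nat.cast_sub Fintype.card_pos, Nat.cast_one, sub_eq_zero] at h2
  rw [h1, orderOf_one] at hk
  omega

theorem coprime_char_sub_one (p : ℕ) [Fact p.Prime] [CharP F p] : p.Coprime (Fintype.card F - 1) := by
  obtain ⟨e, hp, he⟩ := FiniteField.card F p
  rw [hp.coprime_iff_not_dvd]
  intro h
  have h1 : p ∣ Fintype.card F := he ▸ dvd_pow_self p e.ne_zero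
  have h2 := Nat.dvd_sub h1 h
  rw [show Fintype.card F - (Fintype.card F - 1) = 1 by
    have : 1 ≤ Fintype.card F := Fintype.card_pos
    omega] at h2
  exact hp.not_dvd_one h2

theorem pow_ne_one_of_orderOf {G : Type*} [Monoid G] {A : G} {t r : ℕ} (hr : r.Prime) (ht : 0 < t)
    (h : orderOf A = r * t) : A ^ t ≠ 1 := by
  intro he
  have := Nat.le_of_dvd ht (h ▸ orderOf_dvd_of_pow_eq_one he)
  have := Nat.mul_le_mul_right t hr.two_le
  omega

theorem le_of_dvd_card [NeZero n] (p : ℕ) [Fact p.Prime] [CharP F p] {r : ℕ} (hr : r.Prime)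
    (hrp : r ≠ p) (hd : r ∣ Nat.card PSL') : orderOf (Fintype.card F : ZMod r) ≤ n := by
  haveI := Fact.mk hr
  obtain ⟨x, hx⟩ := exists_prime_orderOf_dvd_card' r hd
  obtain ⟨g, hg⟩ := exists_matrix_of_psl x
  rw [hx, ← orderOf_coe] at hg
  obtain ⟨f, hf, -, hfd, -, hk⟩ := exists_factor (g : M) (t := 1) hr (not_dvd_card p hr hrp).2
    (by rw [mul_one, ← hg]; exact pow_orderOf_eq_one _)
    (pow_ne_one_of_orderOf hr Nat.one_pos (by rw [mul_one]; exact hg))
  exact (Nat.le_of_dvd hf.natDegree_pos hk).trans (natDegree_le _ hfd)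

/-- Two odd primes. -/
theorem adjacent_iff [NeZero n] (p : ℕ) [Fact p.Prime] [CharP F p] {r s k l : ℕ} (hr : r.Prime)
    (hs : s.Prime) (hrp : r ≠ p) (hsp : s ≠ p) (hrs : r ≠ s) (hsG : s ∣ Nat.card PSL')
    (hk : orderOf (Fintype.card F : ZMod r) = k) (hl : orderOf (Fintype.card F : ZMod s) = l)
    (h2k : 2 ≤ k) (hkl : k ≤ l) :
    (∃ x : PSL', orderOf x = r * s) ↔ ¬ (n < k + l ∧ ¬ k ∣ l) := by
  have hcop : (r * s).Coprime (Fintype.card F - 1) := Nat.Coprime.mul_left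
    (coprime_sub_one hr (hk ▸ h2k)) (coprime_sub_one hs (hl ▸ h2k.trans hkl))
  have hrs0 : r * s ≠ 0 := mul_ne_zero hr.ne_zero hs.ne_zero
  constructor
  · rintro ⟨x, hx⟩ ⟨hn, hkl'⟩
    obtain ⟨g, hg⟩ := exists_matrix_of_psl x
    rw [hx, ← orderOf_coe] at hg
    set A := (g : M)
    have h1 : A ^ (r * s) = 1 := hg ▸ pow_orderOf_eq_one A
    obtain ⟨f, hf, hfm, hfd, -, hfk⟩ := exists_factor A hr (not_dvd_card p hr hrp).2 h1
      (pow_ne_one_of_orderOf hr hs.pos hg)
    obtain ⟨f', hf', hfm', hfd', -, hfl⟩ := exists_factor A hs (not_dvd_card p hs hsp).2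
      (by rw [mul_comm]; exact h1) (pow_ne_one_of_orderOf hs hr.pos (by rw [hg, mul_comm]))
    rw [hk] at hfk
    rw [hl] at hfl
    by_cases he : f = f'
    · subst he
      have h2 : Nat.lcm k l ≤ n :=
        (Nat.le_of_dvd hf.natDegree_pos (Nat.lcm_dvd hfk hfl)).trans (natDegree_le A hfd)
      obtain ⟨c, hc⟩ := Nat.dvd_lcm_right k l
      rcases c with _ | _ | c
      · rw [mul_zero] at hc
        have := Nat.lcm_pos (by omega : 0 < k) (by omega : 0 < l)
        omega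
      · rw [zero_add, mul_one] at hc
        exact hkl' (hc ▸ Nat.dvd_lcm_left k l)
      · have : l * 2 ≤ Nat.lcm k l := hc ▸ Nat.mul_le_mul_left l (by omega)
        omega
    · have h2 := natDegree_add_le A hf hf' hfm hfm' he (j := 1) hfd (by rwa [pow_one])
      have := Nat.le_of_dvd hf.natDegree_pos hfk
      have := Nat.le_of_dvd hf'.natDegree_pos hfl
      omega
  · intro h
    suffices ∃ A : M, orderOf A = r * s by
      obtain ⟨A, hA⟩ := this
      exact exists_psl_of_matrix A hrs0 hA hcop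
    have hkd := orderOf_pos_of_not_dvd (F := F) hr (not_dvd_card p hr hrp).1
    have hld := orderOf_pos_of_not_dvd (F := F) hs (not_dvd_card p hs hsp).1
    rw [hk] at hkd
    rw [hl] at hld
    by_cases hn : k + l ≤ n
    · obtain ⟨A, -, hA⟩ := exists_orderOf_of_dvd (F := F) (a := k) (by omega : 1 ≤ k) le_rfl hkd.2
      obtain ⟨B, -, hB⟩ := exists_orderOf_of_dvd (F := F) (a := n - k) (by omega : 1 ≤ l) (by omega) hld.2
      refine ⟨blockHom (show k + (n - k) = n by omega) (A, B), ?_⟩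
      rw [orderOf_injective _ (blockHom_injective _), Prod.orderOf, hA, hB,
        ((Nat.coprime_primes hr hs).2 hrs).lcm_eq_mul]
    · have hdvd : k ∣ l := by by_contra hd; exact h ⟨by omega, hd⟩
      have hln : l ≤ n := hl ▸ le_of_dvd_card p hs hsp hsG
      have hrl : r ∣ Fintype.card F ^ l - 1 := hkd.2.trans (Nat.pow_sub_one_dvd_pow_sub_one _ hdvd)
      obtain ⟨A, -, hA⟩ := exists_orderOf_of_dvd (F := F) (a := n) (by omega : 1 ≤ l) hln
        (((Nat.coprime_primes hr hs).2 hrs).mul_dvd_of_dvd_of_dvd hrl hld.2)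
      exact ⟨A, hA⟩

theorem exists_of_two_le [NeZero n] (p : ℕ) [Fact p.Prime] [CharP F p] {r k : ℕ} (hr : r.Prime)
    (hrp : r ≠ p) (hk : orderOf (Fintype.card F : ZMod r) = k) (h2k : 2 ≤ k) (hkn : k + 2 ≤ n) :
    ∃ x : PSL', orderOf x = r * p := by
  have hp : p.Prime := Fact.out
  refine exists_psl_of_matrix ?_ (mul_ne_zero hr.ne_zero hp.ne_zero) ?_
    (Nat.Coprime.mul_left (coprime_sub_one hr (hk ▸ h2k)) (coprime_char_sub_one p))
  · have hkd := orderOf_pos_of_not_dvd (F := F) hr (not_dvd_card p hr hrp).1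
    rw [hk] at hkd
    exact blockHom (show (n - 2) + 2 = n by omega)
      ((exists_orderOf_of_dvd (F := F) (a := n - 2) (by omega : 1 ≤ k) (by omega) hkd.2).choose,
        !![1, 1; 0, 1])
  · have hkd := orderOf_pos_of_not_dvd (F := F) hr (not_dvd_card p hr hrp).1
    rw [hk] at hkd
    rw [orderOf_injective _ (blockHom_injective _), Prod.orderOf,
      (exists_orderOf_of_dvd (F := F) (a := n - 2) (by omega : 1 ≤ k) (by omega) hkd.2).choose_spec.2,
      show orderOf (!![1, 1; 0, 1] : Matrix (Fin 2) (Fin 2) F) = p from ?_,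
      ((Nat.coprime_primes hr hp).2 hrp).lcm_eq_mul]
    refine orderOf_eq_prime ?_ ?_
    · rw [jordan_pow, CharP.cast_eq_zero F p, Matrix.one_fin_two]
      simp
    · intro h
      simpa using congrFun (congrFun h 0) 1

theorem le_of_exists [NeZero n] (p : ℕ) [Fact p.Prime] [CharP F p] {r k : ℕ} (hr : r.Prime)
    (hrp : r ≠ p) (hk : orderOf (Fintype.card F : ZMod r) = k) (h2k : 2 ≤ k)
    {x : PSL'} (hx : orderOf x = r * p) : k + 2 ≤ n := by
  classical
  have hp : p.Prime := Fact.out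
  obtain ⟨g, hg⟩ := exists_matrix_of_psl x
  rw [hx, ← orderOf_coe] at hg
  set A := (g : M)
  have h1 : A ^ (r * p) = 1 := hg ▸ pow_orderOf_eq_one A
  obtain ⟨f, hf, hfm, hfd, -, hfk⟩ := exists_factor A hr (not_dvd_card p hr hrp).2 h1
    (pow_ne_one_of_orderOf hr hp.pos hg)
  rw [hk] at hfk
  have hns : ¬ Squarefree A.charpoly := by
    intro hsq
    have hm : minpoly F A ∣ (X ^ r - 1 : F[X]) ^ p := by
      rw [sub_pow_char, one_pow, ← pow_mul]
      exact minpoly_dvd_of_pow A h1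
    have hm' := ((hsq.squarefree_of_dvd (Matrix.minpoly_dvd_charpoly A)).dvd_pow_iff_dvd hp.ne_zero).1 hm
    obtain ⟨w, hw⟩ := hm'
    refine pow_ne_one_of_orderOf hp hr.pos (by rw [hg, mul_comm]) ?_
    have := congrArg (aeval A) hw
    rwa [map_mul, minpoly.aeval, zero_mul, map_sub, map_pow, aeval_X, map_one, sub_eq_zero] at this
  obtain ⟨z, hz, hzz⟩ : ∃ z : F[X], Irreducible z ∧ z * z ∣ A.charpoly := by
    have := (squarefree_iff_irreducible_sq_not_dvd_of_ne_zero A.charpoly_monic.ne_zero).not.1 hns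
    push Not at this
    exact this
  set g' := z * C z.leadingCoeff⁻¹
  have hu : IsUnit (C z.leadingCoeff⁻¹) :=
    isUnit_C.2 (isUnit_iff_ne_zero.2 (inv_ne_zero (leadingCoeff_ne_zero.2 hz.ne_zero)))
  have hg'i : Irreducible g' := (irreducible_mul_isUnit hu).2 hz
  have hg'm : g'.Monic := monic_mul_leadingCoeff_inv hz.ne_zero
  have hg'2 : g' ^ 2 ∣ A.charpoly := by
    rw [sq]
    exact (mul_dvd_mul (hu.mul_right_dvd.2 dvd_rfl) (hu.mul_right_dvd.2 dvd_rfl)).trans hzz
  have hkf := Nat.le_of_dvd hf.natDegree_pos hfk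
  by_cases he : f = g'
  · subst he
    have := natDegree_le_of_dvd hg'2 A.charpoly_monic.ne_zero
    rw [natDegree_pow, Matrix.charpoly_natDegree_eq_dim, Fintype.card_fin] at this
    omega
  · have := natDegree_add_le A hf hg'i hfm hg'm he hfd hg'2
    have := hg'i.natDegree_pos
    omega

theorem exists_of_eq_one [NeZero n] (p : ℕ) [Fact p.Prime] [CharP F p] {r : ℕ} (hr : r.Prime)
    (hrp : r ≠ p) (hr2 : r ≠ 2) (hrq : r ∣ Fintype.card F - 1) (hn : 3 ≤ n)
    (h : n = 3 → r = 3 → 9 ∣ Fintype.card F - 1) : ∃ x : PSL', orderOf x = r * p := by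
  classical
  have hp : p.Prime := Fact.out
  obtain ⟨N, hrN, hNq, hN⟩ : ∃ N, N ∣ Fintype.card F - 1 ∧ r ∣ N ∧
      ((n = 3 ∧ ∀ o, N ∣ 3 * o → r ∣ o) ∨ (4 ≤ n)) := by
    by_cases h4 : 4 ≤ n
    · exact ⟨r, hrq, dvd_rfl, Or.inr h4⟩
    by_cases h3 : r = 3
    · subst h3
      refine ⟨9, h (by omega) rfl, by norm_num, Or.inl ⟨by omega, fun o ho => ?_⟩⟩
      omega
    · refine ⟨r, hrq, dvd_rfl, Or.inl ⟨by omega, fun o ho => ?_⟩⟩
      exact (hr.dvd_mul.1 ho).resolve_left fun h3' =>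
        h3 ((Nat.prime_dvd_prime_iff_eq hr Nat.prime_three).1 h3')
  obtain ⟨t0, ht0⟩ := IsCyclic.exists_ofOrder_eq_natCard (α := Fˣ)
  rw [Nat.card_units, Nat.card_eq_fintype_card] at ht0
  have hq1 : Fintype.card F - 1 ≠ 0 := (Nat.sub_pos_of_lt Fintype.one_lt_card).ne'
  set u : Fˣ := t0 ^ (orderOf t0 / N)
  have hu : orderOf (u : F) = N := by
    rw [orderOf_units]; exact orderOf_pow_orderOf_div (ht0 ▸ hq1) (ht0 ▸ hrN)
  set a : F := (u : F)
  have ha : a ≠ 0 := u.ne_zero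
  let B : Matrix (Fin 2) (Fin 2) F := !![a, 1; 0, a]
  let C1 : Matrix (Fin (n - 2)) (Fin (n - 2)) F :=
    Matrix.diagonal fun i => if i.val = 0 then (a * a)⁻¹ else 1
  have hdet : (blockHom (F := F) (show 2 + (n - 2) = n by omega) (B, C1)).det = 1 := by
    rw [det_blockHom, Matrix.det_diagonal, Finset.prod_eq_single (⟨0, by omega⟩ : Fin (n - 2))]
    · show B.det * _ = 1
      rw [Matrix.det_fin_two_of, if_pos rfl]
      simp [ha]
      field_simp
    · intro b _ hb
      rw [if_neg fun h => hb (Fin.ext h)]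
    · simp
  let g : Matrix.SpecialLinearGroup (Fin n) F := ⟨_, hdet⟩
  set o := orderOf (proj g) with ho
  obtain ⟨c, -, hg⟩ := exists_scalar g
  change blockHom (F := F) (show 2 + (n - 2) = n by omega) (B, C1) ^ o = c • 1 at hg
  rw [← map_pow, ← blockHom_smul_one (show 2 + (n - 2) = n by omega) c] at hg
  have hB : B ^ o = c • 1 := congrArg Prod.fst (blockHom_injective _ hg)
  have hC : C1 ^ o = c • 1 := congrArg Prod.snd (blockHom_injective _ hg)
  rw [Matrix.diagonal_pow, Matrix.smul_one_eq_diagonal] at hC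
  have hC' := Matrix.diagonal_injective hC
  rw [jordan_pow] at hB
  have h00 : a ^ o = c := by simpa using congrFun (congrFun hB 0) 0
  have h01 : (o : F) * a ^ (o - 1) = 0 := by simpa using congrFun (congrFun hB 0) 1
  have hpo : p ∣ o := (CharP.cast_eq_zero_iff F p o).1
    ((mul_eq_zero.1 h01).resolve_right (pow_ne_zero _ ha))
  have hro : r ∣ o := by
    rcases hN with ⟨-, hN⟩ | h4
    · apply hN
      rw [← hu]
      apply orderOf_dvd_of_pow_eq_one
      have h0 := congrFun hC' ⟨0, by omega⟩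
      simp [inv_pow] at h0
      rw [← h00] at h0
      have : a ^ o * (a * a) ^ o = 1 := by
        rw [← h0, ← mul_pow]
        field_simp
        simp
      calc a ^ (3 * o) = a ^ o * (a * a) ^ o := by ring
        _ = 1 := this
    · refine hNq.trans (hu ▸ orderOf_dvd_of_pow_eq_one ?_)
      have h1 := congrFun hC' ⟨1, by omega⟩
      simp at h1
      rw [h00, ← h1]
  obtain ⟨x, hx⟩ := Spectrum.mem_range_orderOf_of_dvd (⟨proj g, rfl⟩ : o ∈ Set.range _)
    (((Nat.coprime_primes hr hp).2 hrp).mul_dvd_of_dvd_of_dvd hro hpo)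
  exact ⟨x, hx⟩

theorem not_exists_three (p : ℕ) [Fact p.Prime] [CharP F p] (hp : 3 ≠ p)
    (h3 : 3 ∣ Fintype.card F - 1) (h9 : ¬ 9 ∣ Fintype.card F - 1) :
    ¬ ∃ x : Matrix.ProjectiveSpecialLinearGroup (Fin 3) F, orderOf x = 3 * p := by
  rintro ⟨x, hx⟩
  have hmem : 3 * p ∈ Set.range (orderOf : Matrix.ProjectiveSpecialLinearGroup (Fin 3) F → ℕ) := ⟨x, hx⟩
  rw [range_orderOf p] at hmem
  have hpp : p.Prime := Fact.out
  obtain ⟨e, -, he⟩ := FiniteField.card F p
  have hpq : p ∣ Fintype.card F := he ▸ dvd_pow_self p e.ne_zero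
  have hpz : (Fintype.card F : ZMod p) = 0 := (ZMod.natCast_eq_zero_iff _ _).2 hpq
  have hq : 1 ≤ Fintype.card F := Fintype.card_pos
  have hgcd : Nat.gcd 3 (Fintype.card F - 1) = 3 := Nat.gcd_eq_left h3
  haveI : Nontrivial (ZMod p) := inferInstance
  rcases hmem with h | h | h | h | ⟨h2, h⟩
  · have h' := (ZMod.natCast_eq_zero_iff _ p).2
      ((dvd_mul_left p 3).trans (h.trans (Nat.div_dvd_of_dvd gcd_dvd_singer)))
    simp [hpz] at h'
  · have h' := (ZMod.natCast_eq_zero_iff _ p).2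
      ((dvd_mul_left p 3).trans (h.trans (Nat.div_dvd_of_dvd gcd_dvd_sq_sub_one)))
    rw [Nat.cast_sub (Nat.one_le_pow _ _ hq)] at h'
    simp [hpz] at h'
  · have h' := (ZMod.natCast_eq_zero_iff _ p).2 ((dvd_mul_left p 3).trans h)
    rw [Nat.cast_sub hq] at h'
    simp [hpz] at h'
  · rw [hgcd, Nat.mul_div_assoc _ h3, mul_comm p] at h
    have h' := Nat.dvd_of_mul_dvd_mul_right hpp.pos h
    omega
  · subst h2
    norm_num at h

theorem not_exists_two (p : ℕ) [Fact p.Prime] [CharP F p] {r : ℕ} (hr : r.Prime) (hrp : r ≠ p)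
    (h4 : 4 ≤ Fintype.card F) :
    ¬ ∃ x : Matrix.ProjectiveSpecialLinearGroup (Fin 2) F, orderOf x = r * p := by
  rintro ⟨x, hx⟩
  have hmem : r * p ∈ Set.range (orderOf : Matrix.ProjectiveSpecialLinearGroup (Fin 2) F → ℕ) := ⟨x, hx⟩
  rw [Cfsg.Agent.S2475.result p h4] at hmem
  have hpp : p.Prime := Fact.out
  obtain ⟨e, -, he⟩ := FiniteField.card F p
  have hpq : p ∣ Fintype.card F := he ▸ dvd_pow_self p e.ne_zero
  have hpz : (Fintype.card F : ZMod p) = 0 := (ZMod.natCast_eq_zero_iff _ _).2 hpq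
  rcases hmem with h | h | h
  · exact hrp ((Nat.prime_dvd_prime_iff_eq hr hpp).1 ((dvd_mul_right r p).trans h))
  · have h' := (ZMod.natCast_eq_zero_iff _ p).2 ((dvd_mul_left p r).trans
      (h.trans (Nat.div_dvd_of_dvd (Nat.gcd_dvd_right _ _))))
    rw [Nat.cast_sub (by omega)] at h'
    simp [hpz] at h'
  · have hd : Nat.gcd 2 (Fintype.card F - 1) ∣ Fintype.card F + 1 := by
      have h1 := Nat.gcd_dvd_left 2 (Fintype.card F - 1)
      have h2 := Nat.gcd_dvd_right 2 (Fintype.card F - 1)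
      have := dvd_add h2 h1
      rwa [show Fintype.card F - 1 + 2 = Fintype.card F + 1 by omega] at this
    have h' := (ZMod.natCast_eq_zero_iff _ p).2 ((dvd_mul_left p r).trans
      (h.trans (Nat.div_dvd_of_dvd hd)))
    simp [hpz] at h'

end Cfsg.Agent.SpecGL
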