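import Cfsg.Prelude.Def_Classical
import Cfsg.Agent.SpecGL.Primes
import Cfsg.Agent.Spectrum.Symplectic
import Cfsg.Agent.Spectrum.SymplecticOdd
import Cfsg.Agent.Linear.Symplectic

/-! Adjacency in the prime graph of `PSp(2n, q)`. -/

set_option autoImplicit false

open Polynomial

namespace Cfsg.Agent.SpecGL

variable {F : Type*} [Field F] [Fintype F] {n : ℕ}

local notation "Sp'" => Matrix.symplecticGroup (Fin n) F
local notation "M" => Matrix (Fin n ⊕ Fin n) (Fin n ⊕ Fin n) F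
local notation "q" => Fintype.card F

theorem exists_psp_iff [NeZero n] {N : ℕ} (hN : N.Coprime (Nat.gcd 2 (q - 1))) :
    (∃ x : Cfsg.PSp n F, orderOf x = N) ↔ ∃ g : Sp', orderOf g = N := by
  set π := QuotientGroup.mk' (Subgroup.center (Matrix.symplecticGroup (Fin n) F))
  have hdvd : ∀ g : Sp', orderOf g ∣ orderOf (π g) * Nat.gcd 2 (q - 1) := by
    intro g
    have h : g ^ orderOf (π g) ∈ Subgroup.center (Matrix.symplecticGroup (Fin n) F) :=
      (QuotientGroup.eq_one_iff _).1 (by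
        rw [← QuotientGroup.mk'_apply, map_pow]; exact pow_orderOf_eq_one _)
    have h2 := orderOf_dvd_natCard (⟨_, h⟩ : Subgroup.center (Matrix.symplecticGroup (Fin n) F))
    rw [← Subgroup.orderOf_coe, Linear.Symp.card_center] at h2
    apply orderOf_dvd_of_pow_eq_one
    rw [pow_mul]
    exact orderOf_dvd_iff_pow_eq_one.1 h2
  constructor
  · rintro ⟨x, rfl⟩
    obtain ⟨g, rfl⟩ := QuotientGroup.mk'_surjective _ x
    exact ⟨g ^ (orderOf g / orderOf (π g)),
      orderOf_pow_orderOf_div (orderOf_pos g).ne' (orderOf_map_dvd _ g)⟩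
  · rintro ⟨g, rfl⟩
    refine ⟨π g, Nat.dvd_antisymm (orderOf_map_dvd _ g) ?_⟩
    exact hN.dvd_of_dvd_mul_right (hdvd g)

theorem exists_factor_sum {ι : Type*} [Fintype ι] [DecidableEq ι] (A : Matrix ι ι F) {r t : ℕ}
    (hr : r.Prime) (hrF : (r : F) ≠ 0) (h1 : A ^ (r * t) = 1) (h2 : A ^ t ≠ 1) :
    ∃ f : F[X], Irreducible f ∧ f.Monic ∧ f ∣ A.charpoly ∧ ¬ f ∣ X ^ t - 1 ∧
      orderOf (q : ZMod r) ∣ f.natDegree := by
  let e := Fintype.equivFin ι
  let B := Matrix.reindexAlgEquiv F F e A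
  have hB : ∀ k : ℕ, B ^ k = 1 ↔ A ^ k = 1 := fun k => by
    simp only [B, ← map_pow, map_eq_one_iff _ (Matrix.reindexAlgEquiv F F e).injective]
  obtain ⟨f, h3, h4, h5, h6⟩ := exists_factor B hr hrF ((hB _).2 h1) (fun h => h2 ((hB _).1 h))
  exact ⟨f, h3, h4, by rwa [show B.charpoly = A.charpoly from Matrix.charpoly_reindex e A] at h5, h6⟩

theorem coe_pow_eq (g : Sp') (k : ℕ) : ((g : M)) ^ k = 1 ↔ g ^ k = 1 := by
  rw [← SubmonoidClass.coe_pow]
  exact ⟨fun h => Subtype.ext h, fun h => congrArg Subtype.val h⟩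

theorem natDegree_le_two_mul (g : Sp') {P : F[X]} (hP : P ∣ (g : M).charpoly) :
    P.natDegree ≤ 2 * n := by
  have h := natDegree_le_of_dvd hP (g : M).charpoly_monic.ne_zero
  rw [Matrix.charpoly_natDegree_eq_dim, Fintype.card_sum, Fintype.card_fin] at h
  omega

/-- The self-reciprocal class of an irreducible factor of the characteristic polynomial. -/
theorem exists_class (g : Sp') {f : F[X]} (hf : Irreducible f) (hfm : f.Monic)
    (hfd : f ∣ (g : M).charpoly) (hsq : ¬ f ∣ X ^ 2 - 1) :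
    ∃ (P : F[X]) (w : ℕ), P ∣ (g : M).charpoly ∧ P.Monic ∧ Squarefree P ∧ P.natDegree = 2 * w ∧
      (∀ z : F[X], Irreducible z → z ∣ P → ∀ N : ℕ, (z ∣ X ^ N - 1 ↔ f ∣ X ^ N - 1)) ∧
      (f.natDegree = w ∨ (f.natDegree = 2 * w ∧ f ∣ X ^ (q ^ w + 1) - 1)) := by
  classical
  haveI := Fact.mk hf
  haveI : Module.Finite F (AdjoinRoot f) := (AdjoinRoot.powerBasis hf.ne_zero).finite
  haveI : Finite (AdjoinRoot f) := Module.finite_of_finite F
  have hconj : IsConj (g : M) ((g⁻¹ : Sp') : M) := by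
    refine (ClassicalElem.isConj_transpose _).trans ?_
    refine ⟨⟨-Matrix.J (Fin n) F, Matrix.J (Fin n) F, by simp [Matrix.J_squared],
      by simp [Matrix.J_squared]⟩, ?_⟩
    change -Matrix.J (Fin n) F * (g : M).transpose = _ * (-Matrix.J (Fin n) F)
    rw [SymplecticGroup.coe_inv, mul_assoc _ (Matrix.J (Fin n) F), mul_neg (Matrix.J (Fin n) F),
      Matrix.J_squared, neg_neg, mul_one]
  set μ := AdjoinRoot.root f with hμ
  have hμχ : aeval μ (g : M).charpoly = 0 := by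
    rw [AdjoinRoot.aeval_eq, AdjoinRoot.mk_eq_zero]; exact hfd
  obtain ⟨hμa, hμinv⟩ := Spectrum.eigen_facts (g : M) _ (congrArg Subtype.val (mul_inv_cancel g))
    hconj ((coe_pow_eq g _).2 (pow_orderOf_eq_one g)) hμχ
  have hdvd : ∀ N : ℕ, f ∣ X ^ N - 1 ↔ μ ^ N = 1 := fun N => by
    rw [← AdjoinRoot.mk_eq_zero, map_sub, map_pow, AdjoinRoot.mk_X, map_one, sub_eq_zero]
  rw [hdvd] at hsq
  have hμ0 : μ ≠ 0 := fun h => by
    rw [h, zero_pow (orderOf_pos g).ne'] at hμa; exact zero_ne_one hμa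
  have hμint : IsIntegral F μ⁻¹ := IsIntegral.of_finite F _
  set f' := minpoly F μ⁻¹ with hf'
  have hf'i : Irreducible f' := minpoly.irreducible hμint
  have hf'm : f'.Monic := minpoly.monic hμint
  have hf'd : f' ∣ (g : M).charpoly := minpoly.dvd F _ hμinv
  have hdvd' : ∀ N : ℕ, f' ∣ X ^ N - 1 ↔ f ∣ X ^ N - 1 := fun N => by
    rw [hdvd]
    constructor
    · rintro ⟨c, hc⟩
      have h0 := congrArg (aeval μ⁻¹) hc
      rwa [map_mul, hf', minpoly.aeval, zero_mul, map_sub, map_pow, aeval_X, map_one, sub_eq_zero,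
        inv_pow, inv_eq_one] at h0
    · intro h
      refine minpoly.dvd F _ ?_
      rw [map_sub, map_pow, aeval_X, map_one, inv_pow, h, inv_one, sub_self]
  have hfinr : Module.finrank F (AdjoinRoot f) = f.natDegree := by
    rw [(AdjoinRoot.powerBasis hf.ne_zero).finrank, AdjoinRoot.powerBasis_dim]
  by_cases heq : f' = f
  · have hev : aeval μ⁻¹ (minpoly F μ) = 0 := by
      rw [AdjoinRoot.minpoly_root hf.ne_zero, hfm.leadingCoeff, inv_one, map_one, mul_one]
      exact (congrArg (aeval μ⁻¹) heq).symm.trans (minpoly.aeval F _)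
    obtain ⟨σ, hσ⟩ := minpoly.exists_algEquiv_of_root (Algebra.IsAlgebraic.isAlgebraic μ) hev
    obtain ⟨⟨i, hi⟩, hσi⟩ :=
      (FiniteField.bijective_frobeniusAlgEquivOfAlgebraic_pow F (AdjoinRoot f)).2 σ
    have happ : ∀ (k : ℕ) (x : AdjoinRoot f),
        ((FiniteField.frobeniusAlgEquivOfAlgebraic F (AdjoinRoot f)) ^ k) x = x ^ q ^ k := by
      intro k x
      rw [AlgEquiv.coe_pow, FiniteField.coe_frobeniusAlgEquivOfAlgebraic_iterate]
    have hinv : μ ^ q ^ i = μ⁻¹ := by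
      have h' := hσ
      rw [← hσi, happ, inv_pow, inv_eq_iff_eq_inv] at h'
      exact h'
    have h2i : ((FiniteField.frobeniusAlgEquivOfAlgebraic F (AdjoinRoot f)) ^ (2 * i)) = 1 := by
      apply AlgEquiv.coe_algHom_injective
      apply AdjoinRoot.algHom_ext
      show ((FiniteField.frobeniusAlgEquivOfAlgebraic F (AdjoinRoot f)) ^ (2 * i)) μ = μ
      rw [happ, two_mul, pow_add, pow_mul, hinv, inv_pow, hinv, inv_inv]
    have hd2 : f.natDegree ∣ 2 * i := by
      rw [← hfinr, ← FiniteField.orderOf_frobeniusAlgEquivOfAlgebraic]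
      exact orderOf_dvd_of_pow_eq_one h2i
    rw [hfinr] at hi
    have hi0 : i ≠ 0 := fun h0 => by
      rw [h0, pow_zero, pow_one] at hinv
      apply hsq
      rw [pow_two]
      nth_rewrite 1 [hinv]
      exact inv_mul_cancel₀ hμ0
    have hd : f.natDegree = 2 * i := by
      obtain ⟨c, hc⟩ := hd2
      rcases c with _ | _ | c
      · omega
      · omega
      · have : f.natDegree * 2 ≤ f.natDegree * (c + 1 + 1) := Nat.mul_le_mul_left _ (by omega)
        omega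
    refine ⟨f, i, hfd, hfm, hf.squarefree, hd, fun z hz hzf N => ?_, Or.inr ⟨hd, ?_⟩⟩
    · have := hz.associated_of_dvd hf hzf
      exact this.dvd_iff_dvd_left
    · rw [hdvd, pow_succ, hinv, inv_mul_cancel₀ hμ0]
  · have hdeg' : f'.natDegree = f.natDegree := by
      rw [← IntermediateField.adjoin.finrank hμint, ← hfinr]
      have htop : IntermediateField.adjoin F {μ⁻¹} = ⊤ := by
        rw [eq_top_iff]
        intro x _
        have h1 : μ ∈ IntermediateField.adjoin F {μ⁻¹} := by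
          have := (IntermediateField.adjoin F {μ⁻¹}).inv_mem
            (IntermediateField.mem_adjoin_simple_self F μ⁻¹)
          rwa [inv_inv] at this
        have hx : x ∈ Algebra.adjoin F {μ} := by rw [hμ, AdjoinRoot.adjoinRoot_eq_top]; trivial
        exact (Algebra.adjoin_le (S := (IntermediateField.adjoin F {μ⁻¹}).toSubalgebra)
          (Set.singleton_subset_iff.mpr h1)) hx
      rw [htop, IntermediateField.finrank_top']
    have hcop : IsCoprime f f' := (hf.coprime_iff_not_dvd).2 fun h =>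
      heq (eq_of_monic_of_associated hfm hf'm (hf.associated_of_dvd hf'i h)).symm
    refine ⟨f * f', f.natDegree, hcop.mul_dvd hfd hf'd, hfm.mul hf'm,
      (squarefree_mul_iff).2 ⟨hcop.isRelPrime, hf.squarefree, hf'i.squarefree⟩, ?_,
      fun z hz hzP N => ?_, Or.inl rfl⟩
    · rw [hfm.natDegree_mul hf'm, hdeg', two_mul]
    · rcases hz.prime.dvd_or_dvd hzP with h | h
      · exact (hz.associated_of_dvd hf h).dvd_iff_dvd_left
      · rw [(hz.associated_of_dvd hf'i h).dvd_iff_dvd_left, hdvd']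

/-- Parity facts of `k = ord_r q` against the class weight `w`. -/
theorem weight_cases {f : F[X]} (hf : Irreducible f) {r t k η w : ℕ} (hr : r.Prime) (hr2 : r ≠ 2)
    (hk : orderOf (q : ZMod r) = k) (hη : (Odd k ∧ η = k) ∨ (Even k ∧ 2 * η = k))
    (h1 : f ∣ X ^ (r * t) - 1) (h2 : ¬ f ∣ X ^ t - 1)
    (hw : f.natDegree = w ∨ (f.natDegree = 2 * w ∧ f ∣ X ^ (q ^ w + 1) - 1)) :
    η ∣ w ∧ ((f.natDegree = w ∧ k ∣ w) ∨ (f.natDegree = 2 * w ∧ k = 2 * η ∧ Odd (w / η))) := by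
  have hdeg := orderOf_dvd_natDegree hf hr h1 h2
  rw [hk] at hdeg
  have hdvdη : ∀ m, k ∣ m → η ∣ m := fun m hm => by
    rcases hη with ⟨-, rfl⟩ | ⟨-, h⟩
    · exact hm
    · exact (Dvd.intro_left 2 h).trans hm
  rcases hw with h | ⟨h, hdiv⟩
  · rw [h] at hdeg
    exact ⟨hdvdη _ hdeg, Or.inl ⟨h, hdeg⟩⟩
  have hkw : ¬ k ∣ w := by
    intro hkw
    haveI := Fact.mk hr
    haveI := Fact.mk hf
    set a := (AdjoinRoot.root f) ^ t
    have ha1 : a ≠ 1 := fun e => h2 (by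
      rw [← AdjoinRoot.mk_eq_zero, map_sub, map_pow, AdjoinRoot.mk_X, map_one, sub_eq_zero]; exact e)
    have har : a ^ r = 1 := by
      rw [← pow_mul, mul_comm]
      rw [← AdjoinRoot.mk_eq_zero, map_sub, map_pow, AdjoinRoot.mk_X, map_one, sub_eq_zero] at h1
      exact h1
    have hord : orderOf a = r := orderOf_eq_prime har ha1
    have hr1 : r ∣ q ^ w + 1 := by
      rw [← hord]
      apply orderOf_dvd_of_pow_eq_one
      rw [← pow_mul, mul_comm, pow_mul]
      rw [← AdjoinRoot.mk_eq_zero, map_sub, map_pow, AdjoinRoot.mk_X, map_one, sub_eq_zero] at hdiv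
      rw [hdiv, one_pow]
    have hr3 : r ∣ q ^ w - 1 :=
      (Arith.dvd_pow_sub_one_iff_orderOf_dvd Fintype.card_pos w).2 (hk ▸ hkw)
    have h3 := Nat.dvd_sub hr1 hr3
    rw [show q ^ w + 1 - (q ^ w - 1) = 2 by
      have : 1 ≤ q ^ w := Nat.one_le_pow _ _ Fintype.card_pos
      omega] at h3
    exact hr2 ((Nat.prime_dvd_prime_iff_eq hr Nat.prime_two).1 h3)
  rw [h] at hdeg
  rcases hη with ⟨hkodd, -⟩ | ⟨-, hk2⟩
  · exact absurd ((Nat.coprime_two_right.2 hkodd).dvd_of_dvd_mul_left hdeg) hkw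
  · subst hk2
    have hηw : η ∣ w := Nat.dvd_of_mul_dvd_mul_left (by norm_num) hdeg
    refine ⟨hηw, Or.inr ⟨h, rfl, ?_⟩⟩
    rcases Nat.even_or_odd (w / η) with he | ho
    · exfalso
      obtain ⟨c, hc⟩ := he
      refine hkw ⟨c, ?_⟩
      conv_lhs => rw [← Nat.div_mul_cancel hηw, hc]
      ring
    · exact ho

/-- A class for the prime `r` in an element killed by `r * t`. -/
theorem exists_prime_class (p : ℕ) [Fact p.Prime] [CharP F p] (g : Sp') {r t k η : ℕ} (hr : r.Prime)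
    (hr2 : r ≠ 2) (hrp : r ≠ p) (hk : orderOf (q : ZMod r) = k)
    (hη : (Odd k ∧ η = k) ∨ (Even k ∧ 2 * η = k)) (h1 : g ^ (r * t) = 1) (h2 : g ^ t ≠ 1)
    (ht : ¬ r ∣ t) :
    ∃ (f P : F[X]) (w : ℕ), Irreducible f ∧ f ∣ X ^ (r * t) - 1 ∧ ¬ f ∣ X ^ t - 1 ∧
      P ∣ (g : M).charpoly ∧ P.Monic ∧ Squarefree P ∧ P.natDegree = 2 * w ∧ 0 < w ∧
      (∀ z : F[X], Irreducible z → z ∣ P → ∀ N : ℕ, (z ∣ X ^ N - 1 ↔ f ∣ X ^ N - 1)) ∧
      (f.natDegree = w ∨ (f.natDegree = 2 * w ∧ f ∣ X ^ (q ^ w + 1) - 1)) ∧ η ∣ w := by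
  have hA1 : (g : M) ^ (r * t) = 1 := (coe_pow_eq g _).2 h1
  obtain ⟨f, hf, hfm, hfd, hft, -⟩ := exists_factor_sum (g : M) hr (not_dvd_card p hr hrp).2 hA1
    (fun h => h2 ((coe_pow_eq g _).1 h))
  have hfrt : f ∣ X ^ (r * t) - 1 := by
    haveI := Fact.mk hf
    have hμ : aeval (AdjoinRoot.root f) (g : M).charpoly = 0 := by
      rw [AdjoinRoot.aeval_eq, AdjoinRoot.mk_eq_zero]; exact hfd
    obtain ⟨hμa, -⟩ := Spectrum.eigen_facts (K := AdjoinRoot f) (g : M) _
      (congrArg Subtype.val (mul_inv_cancel g)) (by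
        refine (ClassicalElem.isConj_transpose _).trans ?_
        refine ⟨⟨-Matrix.J (Fin n) F, Matrix.J (Fin n) F, by simp [Matrix.J_squared],
          by simp [Matrix.J_squared]⟩, ?_⟩
        change -Matrix.J (Fin n) F * (g : M).transpose = _ * (-Matrix.J (Fin n) F)
        rw [SymplecticGroup.coe_inv, mul_assoc _ (Matrix.J (Fin n) F), mul_neg (Matrix.J (Fin n) F),
          Matrix.J_squared, neg_neg, mul_one]) hA1 hμ
    rw [← AdjoinRoot.mk_eq_zero, map_sub, map_pow, AdjoinRoot.mk_X, map_one, sub_eq_zero]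
    exact hμa
  have hsq : ¬ f ∣ X ^ 2 - 1 := by
    intro h
    haveI := Fact.mk hf
    apply hft
    rw [← AdjoinRoot.mk_eq_zero, map_sub, map_pow, AdjoinRoot.mk_X, map_one, sub_eq_zero] at h hfrt ⊢
    have h3 : AdjoinRoot.root f ^ Nat.gcd 2 (r * t) = 1 := pow_gcd_eq_one.2 ⟨h, hfrt⟩
    have h4 : Nat.gcd 2 (r * t) ∣ t :=
      (Nat.Coprime.dvd_of_dvd_mul_left
        ((Nat.coprime_primes Nat.prime_two hr).2 (Ne.symm hr2) |>.coprime_dvd_left
          (Nat.gcd_dvd_left 2 (r * t))) (Nat.gcd_dvd_right 2 (r * t)))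
    obtain ⟨c, hc⟩ := h4
    rw [hc, pow_mul, h3, one_pow]
  obtain ⟨P, w, hP1, hP2, hP3, hP4, hP5, hP6⟩ := exists_class g hf hfm hfd hsq
  have hw0 : 0 < w := by
    rcases hP6 with h | ⟨h, -⟩ <;> have := hf.natDegree_pos <;> omega
  exact ⟨f, P, w, hf, hfrt, hft, hP1, hP2, hP3, hP4, hw0, hP5, hP6,
    (weight_cases hf hr hr2 hk hη hfrt hft hP6).1⟩

theorem torus_dvd {r k η : ℕ} (hr : r.Prime) (hr' : ¬ r ∣ q) (hk : orderOf (q : ZMod r) = k)
    (hη : (Odd k ∧ η = k) ∨ (Even k ∧ 2 * η = k)) :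
    0 < η ∧ r ∣ (if Even k then q ^ η + 1 else q ^ η - 1) := by
  obtain ⟨hpos, hd⟩ := orderOf_pos_of_not_dvd (F := F) hr hr'
  rw [hk] at hpos hd
  rcases hη with ⟨ho, rfl⟩ | ⟨he, h2⟩
  · rw [if_neg (Nat.not_even_iff_odd.2 ho)]
    exact ⟨hpos, hd⟩
  · rw [if_pos he]
    refine ⟨by omega, ?_⟩
    haveI := Fact.mk hr
    rw [← h2, mul_comm, pow_mul, show (q ^ η) ^ 2 - 1 = (q ^ η + 1) * (q ^ η - 1) by
      rw [← Nat.sq_sub_sq, one_pow]] at hd
    refine (hr.dvd_mul.1 hd).resolve_right fun h => ?_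
    have := (Arith.dvd_pow_sub_one_iff_orderOf_dvd Fintype.card_pos η).1 h
    rw [hk] at this
    have := Nat.le_of_dvd (by omega) this
    omega

theorem hasOrd_prime {r k η : ℕ} (hr : r.Prime) (hr' : ¬ r ∣ q) (hk : orderOf (q : ZMod r) = k)
    (hη : (Odd k ∧ η = k) ∨ (Even k ∧ 2 * η = k)) : Spectrum.HasOrd F η r := by
  obtain ⟨hpos, hd⟩ := torus_dvd hr hr' hk hη
  by_cases he : Even k
  · rw [if_pos he] at hd
    obtain ⟨g, hg⟩ := Spectrum.exists_torus_sp F (d := η) hpos _ (Or.inr rfl)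
    exact ⟨g, hg ▸ hd⟩
  · rw [if_neg he] at hd
    obtain ⟨g, hg⟩ := Spectrum.exists_torus_sp F (d := η) hpos _ (Or.inl rfl)
    exact ⟨g, hg ▸ hd⟩

theorem eta_le [NeZero n] (p : ℕ) [Fact p.Prime] [CharP F p] {r k η : ℕ} (hr : r.Prime)
    (hr2 : r ≠ 2) (hrp : r ≠ p) (hk : orderOf (q : ZMod r) = k)
    (hη : (Odd k ∧ η = k) ∨ (Even k ∧ 2 * η = k)) (hd : r ∣ Nat.card (Cfsg.PSp n F)) : η ≤ n := by
  haveI := Fact.mk hr
  obtain ⟨x, hx⟩ := exists_prime_orderOf_dvd_card' r hd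
  obtain ⟨g, hg⟩ := (exists_psp_iff (n := n) (F := F) (N := r)
    (((Nat.coprime_primes hr Nat.prime_two).2 hr2).coprime_dvd_right (Nat.gcd_dvd_left _ _))).1 ⟨x, hx⟩
  obtain ⟨f, P, w, -, -, -, hP, -, -, hdeg, hw, -, -, hηw⟩ := exists_prime_class p g (t := 1) hr hr2 hrp hk hη
    (by rw [mul_one, ← hg, pow_orderOf_eq_one])
    (pow_ne_one_of_orderOf hr Nat.one_pos (by rw [mul_one]; exact hg)) hr.not_dvd_one
  have := natDegree_le_two_mul g hP
  have := Nat.le_of_dvd hw hηw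
  omega

/-- Adjacency with the characteristic. -/
theorem char_adjacent_iff [NeZero n] (p : ℕ) [Fact p.Prime] [CharP F p] {r k η : ℕ} (hr : r.Prime)
    (hr2 : r ≠ 2) (hrp : r ≠ p) (hk : orderOf (q : ZMod r) = k)
    (hη : (Odd k ∧ η = k) ∨ (Even k ∧ 2 * η = k)) :
    (∃ x : Cfsg.PSp n F, orderOf x = r * p) ↔ η + 1 ≤ n := by
  have hp : p.Prime := Fact.out
  rw [exists_psp_iff (Nat.Coprime.mul_left
    (((Nat.coprime_primes hr Nat.prime_two).2 hr2).coprime_dvd_right (Nat.gcd_dvd_left _ _))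
    ((coprime_char_sub_one (F := F) p).coprime_dvd_right (Nat.gcd_dvd_right _ _)))]
  constructor
  · rintro ⟨g, hg⟩
    obtain ⟨f, P, w, -, -, -, hP, hPm, hPsq, hdeg, hw, -, -, hηw⟩ := exists_prime_class p g hr hr2 hrp hk hη
      (t := p) (hg ▸ pow_orderOf_eq_one g) (pow_ne_one_of_orderOf hr hp.pos hg)
      fun h => hrp ((Nat.prime_dvd_prime_iff_eq hr hp).1 h)
    have h2n := natDegree_le_two_mul g hP
    have := Nat.le_of_dvd hw hηw
    rcases (show w < n ∨ w = n by omega) with h | hwn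
    · omega
    exfalso
    have hchar : P = (g : M).charpoly := (eq_of_monic_of_dvd_of_natDegree_le hPm
      (g : M).charpoly_monic hP (by
        rw [Matrix.charpoly_natDegree_eq_dim, Fintype.card_sum, Fintype.card_fin, hdeg, hwn, two_mul])).symm
    rw [hchar] at hPsq
    have hm : minpoly F (g : M) ∣ (X ^ r - 1 : F[X]) ^ p := by
      rw [sub_pow_char, one_pow, ← pow_mul]
      refine minpoly.dvd F _ ?_
      rw [map_sub, map_pow, aeval_X, map_one, (coe_pow_eq g _).2 (hg ▸ pow_orderOf_eq_one g), sub_self]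
    obtain ⟨v, hv⟩ := ((hPsq.squarefree_of_dvd
      (Matrix.minpoly_dvd_charpoly (g : M))).dvd_pow_iff_dvd hp.ne_zero).1 hm
    refine pow_ne_one_of_orderOf (G := Sp') hp hr.pos (by rw [hg, mul_comm]) ((coe_pow_eq g _).1 ?_)
    have := congrArg (aeval (g : M)) hv
    rwa [map_mul, minpoly.aeval, zero_mul, map_sub, map_pow, aeval_X, map_one, sub_eq_zero] at this
  · intro h
    have h1 := hasOrd_prime hr (not_dvd_card p hr hrp).1 hk hη
    obtain ⟨g, hg⟩ := Spectrum.exists_unipotent (F := F) (p := p) (m := 1) (j := 0) le_rfl (by simp)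
    have h2 := Spectrum.hasOrd_mono (show η + 1 ≤ n from h) (Spectrum.hasOrd_add h1 ⟨g, hg⟩)
    rw [zero_add, pow_one, ((Nat.coprime_primes hr hp).2 hrp).lcm_eq_mul] at h2
    obtain ⟨g', hg'⟩ := h2
    exact ⟨g' ^ (orderOf g' / (r * p)), orderOf_pow_orderOf_div (orderOf_pos g').ne' hg'⟩

/-- Adjacency of two odd primes. -/
theorem sp_adjacent_iff [NeZero n] (p : ℕ) [Fact p.Prime] [CharP F p] {r s k l ηk ηl : ℕ} (hr : r.Prime)
    (hs : s.Prime) (hr2 : r ≠ 2) (hs2 : s ≠ 2) (hrp : r ≠ p) (hsp : s ≠ p) (hrs : r ≠ s)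
    (hsG : s ∣ Nat.card (Cfsg.PSp n F)) (hk : orderOf (q : ZMod r) = k) (hl : orderOf (q : ZMod s) = l)
    (hηk : (Odd k ∧ ηk = k) ∨ (Even k ∧ 2 * ηk = k)) (hηl : (Odd l ∧ ηl = l) ∨ (Even l ∧ 2 * ηl = l))
    (hkl : ηk ≤ ηl) :
    (∃ x : Cfsg.PSp n F, orderOf x = r * s) ↔ ¬ (n < ηk + ηl ∧ ¬ ∃ t : ℕ, Odd t ∧ l = k * t) := by
  have hcop := (Nat.coprime_primes hr hs).2 hrs
  rw [exists_psp_iff (Nat.Coprime.mul_left
    (((Nat.coprime_primes hr Nat.prime_two).2 hr2).coprime_dvd_right (Nat.gcd_dvd_left _ _))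
    (((Nat.coprime_primes hs Nat.prime_two).2 hs2).coprime_dvd_right (Nat.gcd_dvd_left _ _)))]
  have hkpos : 0 < ηk := (torus_dvd hr (not_dvd_card p hr hrp).1 hk hηk).1
  have hlpos : 0 < ηl := (torus_dvd hs (not_dvd_card p hs hsp).1 hl hηl).1
  constructor
  · rintro ⟨g, hg⟩ ⟨hn, hodd⟩
    have h1 : g ^ (r * s) = 1 := hg ▸ pow_orderOf_eq_one g
    obtain ⟨f, P, w, hf, hfrs, hfs, hP, hPm, -, hdeg, hw, hPz, hwc, hηw⟩ := exists_prime_class p g hr hr2 hrp hk
      hηk h1 (pow_ne_one_of_orderOf hr hs.pos hg) fun h => hrs ((Nat.prime_dvd_prime_iff_eq hr hs).1 h)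
    have h2n := natDegree_le_two_mul g hP
    by_cases hfr : f ∣ X ^ r - 1
    · obtain ⟨f', P', w', -, -, hf's, hP', hPm', -, hdeg', hw', hPz', -, hηw'⟩ := exists_prime_class p g hs hs2 hsp
        hl hηl (t := r) (by rw [mul_comm]; exact h1)
        (pow_ne_one_of_orderOf hs hr.pos (by rw [hg, mul_comm]))
        fun h => hrs ((Nat.prime_dvd_prime_iff_eq hs hr).1 h).symm
      have hc : IsCoprime P P' := isCoprime_of_irreducible_dvd (fun h => hPm.ne_zero h.1)
        fun z hz hz1 hz2 => hf's ((hPz' z hz hz2 r).1 ((hPz z hz hz1 r).2 hfr))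
      have h3 := natDegree_le_two_mul g (hc.mul_dvd hP hP')
      rw [hPm.natDegree_mul hPm', hdeg, hdeg'] at h3
      have := Nat.le_of_dvd hw hηw
      have := Nat.le_of_dvd hw' hηw'
      omega
    · obtain ⟨-, hck⟩ := weight_cases hf hr hr2 hk hηk hfrs hfs hwc
      obtain ⟨hlw, hcl⟩ := weight_cases hf hs hs2 hl hηl (t := r) (by rw [mul_comm]; exact hfrs) hfr hwc
      have hd0 := hf.natDegree_pos
      rcases hck with ⟨hd1, hkw⟩ | ⟨hd1, hk2, hko⟩
      · rcases hcl with ⟨-, hlw'⟩ | ⟨hd2, -, -⟩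
        swap
        · omega
        obtain ⟨c, hc⟩ := hlw'
        rcases hηl with ⟨hlo, rfl⟩ | ⟨-, hl2⟩
        · rcases c with _ | _ | c
          · omega
          · rw [zero_add, mul_one] at hc
            obtain ⟨t, ht⟩ : k ∣ ηl := hc ▸ hkw
            exact hodd ⟨t, (Nat.odd_mul.1 (ht ▸ hlo)).2, ht⟩
          · have : ηl * 2 ≤ w := hc ▸ Nat.mul_le_mul_left _ (by omega)
            omega
        · have := Nat.le_of_dvd hw (⟨c, hc⟩ : l ∣ w)
          omega
      · rcases hcl with ⟨hd2, -⟩ | ⟨-, hl2, hlo⟩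
        · omega
        obtain ⟨c, hc⟩ := hlw
        rw [hc, Nat.mul_div_cancel_left _ hlpos] at hlo
        rcases c with _ | _ | _ | c
        · omega
        · rw [zero_add, mul_one] at hc
          refine hodd ⟨w / ηk, hko, ?_⟩
          rw [hl2, hk2, mul_assoc, Nat.mul_div_cancel' hηw, hc]
        · exact absurd hlo (by decide)
        · have : ηl * 3 ≤ w := hc ▸ Nat.mul_le_mul_left _ (by omega)
          omega
  · intro h
    have key : Spectrum.HasOrd F n (r * s) := by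
      by_cases hn : ηk + ηl ≤ n
      · have h1 := Spectrum.hasOrd_mono hn (Spectrum.hasOrd_add (hasOrd_prime hr (not_dvd_card p hr hrp).1 hk hηk)
          (hasOrd_prime hs (not_dvd_card p hs hsp).1 hl hηl))
        rwa [hcop.lcm_eq_mul] at h1
      · have ht : ∃ t : ℕ, Odd t ∧ l = k * t := by by_contra hd; exact h ⟨by omega, hd⟩
        obtain ⟨t, hto, hlt⟩ := ht
        have hηn : ηl ≤ n := eta_le p hs hs2 hsp hl hηl hsG
        obtain ⟨-, hdk⟩ := torus_dvd hr (not_dvd_card p hr hrp).1 hk hηk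
        obtain ⟨-, hdl⟩ := torus_dvd hs (not_dvd_card p hs hsp).1 hl hηl
        by_cases he : Even k
        · have hel : Even l := hlt ▸ he.mul_right t
          rw [if_pos he] at hdk
          rw [if_pos hel] at hdl
          have hηe : ηl = ηk * t := by
            rcases hηk with ⟨ho, -⟩ | ⟨-, h2⟩
            · exact absurd he (Nat.not_even_iff_odd.2 ho)
            rcases hηl with ⟨ho, -⟩ | ⟨-, h3⟩
            · exact absurd hel (Nat.not_even_iff_odd.2 ho)
            rw [← h2, ← h3] at hlt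
            linarith
          have hd : r ∣ q ^ ηl + 1 := by
            refine hdk.trans ?_
            rw [hηe, pow_mul]
            simpa using hto.nat_add_dvd_pow_add_pow (q ^ ηk) 1
          obtain ⟨g, hg⟩ := Spectrum.exists_torus_sp F (d := ηl) hlpos _ (Or.inr rfl)
          exact Spectrum.hasOrd_mono hηn ⟨g, hg ▸ hcop.mul_dvd_of_dvd_of_dvd hd hdl⟩
        · have hel : ¬ Even l := by
            rw [Nat.not_even_iff_odd] at he ⊢
            exact hlt ▸ he.mul hto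
          rw [if_neg he] at hdk
          rw [if_neg hel] at hdl
          have hek : ηk = k := by rcases hηk with ⟨-, h⟩ | ⟨h, -⟩; exacts [h, absurd h he]
          have hell : ηl = l := by rcases hηl with ⟨-, h⟩ | ⟨h, -⟩; exacts [h, absurd h hel]
          have hd : r ∣ q ^ ηl - 1 :=
            hdk.trans (Nat.pow_sub_one_dvd_pow_sub_one _ (by rw [hek, hell]; exact ⟨t, hlt⟩))
          obtain ⟨g, hg⟩ := Spectrum.exists_torus_sp F (d := ηl) hlpos _ (Or.inl rfl)
          exact Spectrum.hasOrd_mono hηn ⟨g, hg ▸ hcop.mul_dvd_of_dvd_of_dvd hd hdl⟩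
    obtain ⟨g, hg⟩ := key
    exact ⟨g ^ (orderOf g / (r * s)), orderOf_pow_orderOf_div (orderOf_pos g).ne' hg⟩

end Cfsg.Agent.SpecGL
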