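import Cfsg.Agent.S2495
import Cfsg.Agent.Spec.UnitaryDichotomy
import Cfsg.Agent.SpecGL.Primes

/-! Elements of order `q ^ m + (-1) ^ m` in `PSU(2m, q)`. -/

set_option autoImplicit false

open Polynomial

namespace Cfsg.Agent.SpecGL

open Cfsg.Agent.Spec.Unitary (torusD torusD_mul two_le_q conjHom conjHom_apply frobPow frobPow_apply frobPow_algebraMap adj adj_zero adj_aeval adj_eq_pow scalar_of_primary coe_pow' exists_torus proj_eq_one_of_scalar)

theorem neg_one_cast {e q : ℕ} (he : e ∣ q + 1) : (q : ZMod e) = -1 := by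
  have h := (ZMod.natCast_eq_zero_iff (q + 1) e).2 he
  rw [Nat.cast_add, Nat.cast_one] at h
  exact eq_neg_of_add_eq_zero_left h

/-- The number `(q^m - (-1)^m)/(q+1)` modulo divisors of `q + 1`. -/
theorem cofactor (q m : ℕ) (hq : 2 ≤ q) :
    ∃ G : ℕ, G * (q + 1) = (if Even m then q ^ m - 1 else q ^ m + 1) ∧
      ∀ e : ℕ, e ∣ q + 1 → (e ∣ G ↔ e ∣ m) := by
  rcases Nat.even_or_odd' m with ⟨j, rfl | rfl⟩
  · refine ⟨(q - 1) * ∑ i ∈ Finset.range j, (q ^ 2) ^ i, ?_, fun e he => ?_⟩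
    · rw [if_pos (even_two_mul j), pow_mul, mul_comm _ (q + 1), ← mul_assoc,
        show (q + 1) * (q - 1) = q ^ 2 - 1 by rw [← Nat.sq_sub_sq, one_pow], mul_comm,
        Nat.geomSum_eq (by nlinarith : 2 ≤ q ^ 2), Nat.div_mul_cancel (Nat.sub_one_dvd_pow_sub_one _ j)]
    · rw [← ZMod.natCast_eq_zero_iff _ e, ← ZMod.natCast_eq_zero_iff _ e]
      have hcast : (((q - 1) * ∑ i ∈ Finset.range j, (q ^ 2) ^ i : ℕ) : ZMod e) =
          -((2 * j : ℕ) : ZMod e) := by
        simp [Nat.cast_sub (by omega : 1 ≤ q), neg_one_cast he]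
        ring
      rw [hcast, neg_eq_zero]
  · refine ⟨q * ((q - 1) * ∑ i ∈ Finset.range j, (q ^ 2) ^ i) + 1, ?_, fun e he => ?_⟩
    · rw [if_neg (by simp), add_mul, one_mul, mul_assoc, mul_comm _ (q + 1), ← mul_assoc (q + 1),
        show (q + 1) * (q - 1) = q ^ 2 - 1 by rw [← Nat.sq_sub_sq, one_pow], mul_comm (q ^ 2 - 1),
        Nat.geomSum_eq (by nlinarith : 2 ≤ q ^ 2), Nat.div_mul_cancel (Nat.sub_one_dvd_pow_sub_one _ j),
        Nat.mul_sub, mul_one, pow_succ' q (2 * j), pow_mul q 2 j]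
      have h1 : q ≤ q * (q ^ 2) ^ j := Nat.le_mul_of_pos_right q (pow_pos (by positivity) j)
      omega
    · rw [← ZMod.natCast_eq_zero_iff _ e, ← ZMod.natCast_eq_zero_iff _ e]
      have hcast : ((q * ((q - 1) * ∑ i ∈ Finset.range j, (q ^ 2) ^ i) + 1 : ℕ) : ZMod e) =
          ((2 * j + 1 : ℕ) : ZMod e) := by
        simp [Nat.cast_sub (by omega : 1 ≤ q), neg_one_cast he]
        ring
      rw [hcast]

variable {F : Type*} [Field F] [Fintype F] {q : ℕ}

theorem torus_gcd {m : ℕ} (hq : 2 ≤ q) :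
    Nat.gcd (torusD (2 * m) q) (q + 1) = Nat.gcd (2 * m) (q + 1) := by
  obtain ⟨G, hG, hGd⟩ := cofactor q (2 * m) hq
  rw [if_pos (even_two_mul m)] at hG
  have hD : torusD (2 * m) q = G := by
    rw [torusD, if_neg (by simp), ← hG, Nat.mul_div_cancel _ (by omega)]
  rw [hD]
  apply Nat.dvd_antisymm
  · exact Nat.dvd_gcd ((hGd _ (Nat.gcd_dvd_right _ _)).1 (Nat.gcd_dvd_left _ _)) (Nat.gcd_dvd_right _ _)
  · exact Nat.dvd_gcd ((hGd _ (Nat.gcd_dvd_right _ _)).2 (Nat.gcd_dvd_left _ _)) (Nat.gcd_dvd_right _ _)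

/-- An element whose order involves a primitive prime lies in a torus. -/
theorem scalar_of_primitive (hF : Fintype.card F = q ^ 2) {m r : ℕ} (hm : 2 ≤ m) (hr : r.Prime)
    (hr2 : r ≠ 2) (hrF : (r : F) ≠ 0) (hordr : orderOf (Fintype.card F : ZMod r) = m)
    (hrm : Odd m → r ∣ q ^ m - 1) (g : Cfsg.SU (2 * m) F q) (hg : r ∣ orderOf g) :
    ∃ c : F, (g.1 : Matrix (Fin (2 * m)) (Fin (2 * m)) F) ^
      (torusD (2 * m) q / Nat.gcd (torusD (2 * m) q) (q + 1)) = c • 1 := by
  classical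
  haveI := Fact.mk hr
  haveI : NeZero (2 * m) := ⟨by omega⟩
  have hq2 := two_le_q hF
  set A := (g.1 : Matrix (Fin (2 * m)) (Fin (2 * m)) F) with hA
  obtain ⟨hN, hAN, hadj⟩ := adj_eq_pow hF g
  rw [← hA] at hAN hadj
  obtain ⟨t, ht⟩ := hg
  have hA2 : A ^ t ≠ 1 := by
    intro h
    refine pow_ne_one_of_orderOf hr (Nat.pos_of_ne_zero fun h0 => ?_) ht ?_
    · rw [h0, mul_zero] at ht; omega
    · apply Subtype.ext; apply Subtype.ext
      rw [coe_pow']
      exact h
  obtain ⟨f, hf, hfm, hfd, hft, hmdeg⟩ := exists_factor A hr hrF (by rw [← ht]; exact hAN) hA2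
  rw [hordr] at hmdeg
  have hdegle := natDegree_le A hfd
  have hdet : A.det = 1 := g.1.2
  obtain ⟨c, hc⟩ := hmdeg
  rcases (show c = 1 ∨ c = 2 by
    have := hf.natDegree_pos
    rw [hc] at hdegle this
    rcases c with _ | _ | _ | c
    · omega
    · exact Or.inl rfl
    · exact Or.inr rfl
    · have : m * 3 ≤ m * (c + 1 + 1 + 1) := Nat.mul_le_mul_left m (by omega)
      omega) with rfl | rfl
  swap
  · -- irreducible characteristic polynomial
    have hchar : A.charpoly = f := (eq_of_monic_of_dvd_of_natDegree_le hfm A.charpoly_monic hfd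
      (by rw [Matrix.charpoly_natDegree_eq_dim, Fintype.card_fin, hc, mul_comm]))
    exact scalar_of_primary hF g hf hfm 1 (one_mul 1) one_ne_zero (by rw [mul_one, one_mul])
      (by rw [mul_one, ← hchar]; exact Matrix.aeval_self_charpoly A) (Or.inl rfl)
  rw [mul_one] at hc
  haveI := Fact.mk hf
  haveI : Module.Finite F (AdjoinRoot f) := (AdjoinRoot.powerBasis hf.ne_zero).finite
  haveI : Finite (AdjoinRoot f) := Module.finite_of_finite F
  set θ := AdjoinRoot.root f with hθ
  have hdvd : ∀ P : F[X], aeval A P = 0 → aeval θ P = 0 := fun P hP => by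
    rw [AdjoinRoot.aeval_eq, AdjoinRoot.mk_eq_zero]
    exact (Cfsg.Agent.Spec.dvd_charpoly_dvd_minpoly A hf hfd).trans (minpoly.dvd F A hP)
  have hθN : θ ^ orderOf g = 1 := by
    have := hdvd (X ^ orderOf g - 1) (by rw [map_sub, map_pow, aeval_X, map_one, hAN, sub_self])
    rwa [map_sub, map_pow, aeval_X, map_one, sub_eq_zero] at this
  have hθ0 : θ ≠ 0 := fun h => by rw [h, zero_pow hN.ne'] at hθN; exact zero_ne_one hθN
  -- the conjugate-inverse root
  set β := (θ⁻¹) ^ q with hβ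
  have hβroot : aeval β A.charpoly = 0 := by
    have h1 : aeval A ((A.charpoly.map (conjHom hF)).comp (X ^ (orderOf g - 1))) = 0 := by
      rw [aeval_comp, map_pow, aeval_X, ← hadj, ← adj_aeval hF, Matrix.aeval_self_charpoly, adj_zero]
    have h2 := hdvd _ h1
    rw [aeval_comp, map_pow, aeval_X] at h2
    have hinv : θ ^ (orderOf g - 1) = θ⁻¹ := eq_inv_of_mul_eq_one_left (by
      rw [← pow_succ, Nat.sub_add_cancel hN, hθN])
    rw [hinv, aeval_def, Polynomial.eval₂_map] at h2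
    have h3 := congrArg (frobPow hF (AdjoinRoot f) 1) h2
    rw [map_zero, Polynomial.hom_eval₂, frobPow_apply, pow_one] at h3
    rw [← h3, aeval_def]
    congr 1
    ext a
    simp only [RingHom.comp_apply]
    rw [frobPow_algebraMap hF odd_one]
    simp [conjHom_apply, Cfsg.Agent.Spec.Unitary.pow_q_pow_q hF]
  have hβint : IsIntegral F β := IsIntegral.of_finite F _
  set f' := minpoly F β with hf'
  have hf'i : Irreducible f' := minpoly.irreducible hβint
  have hf'm : f'.Monic := minpoly.monic hβint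
  have hf'd : f' ∣ A.charpoly := minpoly.dvd F _ hβroot
  have hcardK : Nat.card (AdjoinRoot f) = (q ^ 2) ^ m := by rw [natCard_adjoinRoot hf, hF, hc]
  haveI := Fintype.ofFinite (AdjoinRoot f)
  have hθq : θ ^ (q ^ 2) ^ m = θ := by
    rw [← hcardK, Nat.card_eq_fintype_card, FiniteField.pow_card]
  have hfinr : Module.finrank F (AdjoinRoot f) = f.natDegree := by
    rw [(AdjoinRoot.powerBasis hf.ne_zero).finrank, AdjoinRoot.powerBasis_dim]
  have hdeg' : f'.natDegree = m := by
    rw [← IntermediateField.adjoin.finrank hβint, ← hc, ← hfinr]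
    have htop : IntermediateField.adjoin F {β} = ⊤ := by
      rw [eq_top_iff]
      intro x _
      have h1 : θ ∈ IntermediateField.adjoin F {β} := by
        have e : (β ^ q ^ (2 * m - 1))⁻¹ = θ := by
          rw [hβ, ← pow_mul, ← pow_succ', show 2 * m - 1 + 1 = 2 * m by omega, pow_mul, inv_pow,
            inv_inv, hθq]
        have h := (IntermediateField.adjoin F {β}).inv_mem (pow_mem
          (IntermediateField.mem_adjoin_simple_self F β) (q ^ (2 * m - 1)))
        rwa [e] at h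
      have hx : x ∈ Algebra.adjoin F {θ} := by rw [hθ, AdjoinRoot.adjoinRoot_eq_top]; trivial
      exact (Algebra.adjoin_le (S := (IntermediateField.adjoin F {β}).toSubalgebra)
        (Set.singleton_subset_iff.mpr h1)) hx
    rw [htop, IntermediateField.finrank_top']
  have hne : f' ≠ f := by
    intro heq
    have hev : aeval β (minpoly F θ) = 0 := by
      rw [AdjoinRoot.minpoly_root hf.ne_zero, hfm.leadingCoeff, inv_one, map_one, mul_one]
      exact (congrArg (aeval β) heq).symm.trans (minpoly.aeval F _)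
    obtain ⟨σ, hσ⟩ := minpoly.exists_algEquiv_of_root (Algebra.IsAlgebraic.isAlgebraic θ) hev
    obtain ⟨⟨i, hi⟩, hσi⟩ :=
      (FiniteField.bijective_frobeniusAlgEquivOfAlgebraic_pow F (AdjoinRoot f)).2 σ
    rw [hfinr, hc] at hi
    have hinv : θ⁻¹ ^ (q ^ (2 * i + 1)) = θ := by
      have h := hσ
      rw [← hσi, AlgEquiv.coe_pow, FiniteField.coe_frobeniusAlgEquivOfAlgebraic_iterate] at h
      change β ^ (Fintype.card F ^ i) = θ at h
      rwa [hF, hβ, ← pow_mul, ← pow_mul, ← pow_succ'] at h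
    set a := θ ^ t
    have ha1 : a ≠ 1 := fun e => hft (by
      rw [← AdjoinRoot.mk_eq_zero, map_sub, map_pow, AdjoinRoot.mk_X, map_one, sub_eq_zero]; exact e)
    have har : a ^ r = 1 := by rw [← pow_mul, mul_comm, ← ht, hθN]
    have hra : orderOf a = r := orderOf_eq_prime har ha1
    have hr1 : r ∣ q ^ (2 * i + 1) + 1 := by
      rw [← hra]
      apply orderOf_dvd_of_pow_eq_one
      rw [← pow_mul, mul_comm, pow_mul, pow_succ]
      nth_rewrite 2 [← hinv]
      rw [inv_pow, mul_inv_cancel₀ (pow_ne_zero _ hθ0), one_pow]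
    have hqr : ¬ r ∣ q := by
      intro h
      have : (Fintype.card F : ZMod r) = 0 :=
        (ZMod.natCast_eq_zero_iff _ _).2 (hF ▸ dvd_pow h two_ne_zero)
      rw [this, orderOf_zero] at hordr
      omega
    have hqz : (q : ZMod r) ≠ 0 := fun h => hqr ((ZMod.natCast_eq_zero_iff _ _).1 h)
    obtain ⟨j, hj⟩ : ∃ j, 2 * i + 1 = j := ⟨_, rfl⟩
    rw [hF, Nat.cast_pow] at hordr
    have hqj : (q : ZMod r) ^ j = -1 := by
      have := (ZMod.natCast_eq_zero_iff _ r).2 hr1
      rw [Nat.cast_add, Nat.cast_pow, Nat.cast_one, hj] at this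
      exact eq_neg_of_add_eq_zero_left this
    have hmj : m ∣ j := by
      rw [← hordr]
      apply orderOf_dvd_of_pow_eq_one
      rw [← pow_mul, mul_comm, pow_mul, hqj, neg_one_sq]
    obtain ⟨e, rfl⟩ := hmj
    have he : e = 1 := by
      rcases e with _ | _ | e
      · omega
      · rfl
      · have : m * 2 ≤ m * (e + 1 + 1) := Nat.mul_le_mul_left m (by omega)
        omega
    subst he
    rw [mul_one] at hqj hj
    have hmodd : Odd m := ⟨i, hj.symm⟩
    have h1 : ((q : ZMod r)) ^ m = 1 := by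
      have h := (ZMod.natCast_eq_zero_iff _ r).2 (hrm hmodd)
      rw [Nat.cast_sub (Nat.one_le_pow _ _ (by omega)), Nat.cast_pow, Nat.cast_one, sub_eq_zero] at h
      exact h
    rw [h1] at hqj
    have h2 : ((2 : ℕ) : ZMod r) = 0 := by
      have : (1 : ZMod r) + 1 = 0 := eq_neg_iff_add_eq_zero.1 hqj
      simpa [one_add_one_eq_two] using this
    exact hr2 ((Nat.prime_dvd_prime_iff_eq hr Nat.prime_two).1 ((ZMod.natCast_eq_zero_iff _ _).1 h2))
  have hcop : IsCoprime f f' := (hf.coprime_iff_not_dvd).2 fun h =>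
    hne (eq_of_monic_of_associated hfm hf'm (hf.associated_of_dvd hf'i h)).symm
  have hchar : A.charpoly = f * f' := (eq_of_monic_of_dvd_of_natDegree_le (hfm.mul hf'm)
    A.charpoly_monic (hcop.mul_dvd hfd hf'd) (by
      rw [Matrix.charpoly_natDegree_eq_dim, Fintype.card_fin, hfm.natDegree_mul hf'm, hc, hdeg',
        two_mul]))
  -- norms
  set S := ((q ^ 2) ^ m - 1) / (q ^ 2 - 1) with hS
  have hθS : θ ^ S = algebraMap F (AdjoinRoot f) ((-1) ^ m * f.coeff 0) := by
    have := root_norm hf hfm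
    rwa [hc, hF] at this
  have hβS : β ^ S = algebraMap F (AdjoinRoot f) ((-1) ^ m * f'.coeff 0) := by
    haveI := Fact.mk hf'i
    have h1 := root_norm hf'i hf'm
    rw [hdeg', hF] at h1
    obtain ⟨w, hw⟩ := dvd_of_root hf'i h1
    have h2 := congrArg (aeval β) hw
    rw [map_sub, map_pow, aeval_X, aeval_C, map_mul (aeval β), hf', minpoly.aeval, zero_mul, sub_eq_zero] at h2
    exact h2
  have hprod : θ ^ S * β ^ S = 1 := by
    rw [hθS, hβS, ← map_mul, ← map_one (algebraMap F (AdjoinRoot f))]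
    congr 1
    have h := Matrix.det_eq_sign_charpoly_coeff A
    rw [hdet, hchar, mul_coeff_zero, Fintype.card_fin, two_mul, pow_add] at h
    linear_combination -h
  have hθS1 : (θ ^ S) ^ (q - 1) = 1 := by
    rw [hβ, ← pow_mul, mul_comm q, pow_mul, inv_pow, inv_pow,
      mul_inv_eq_one₀ (pow_ne_zero _ (pow_ne_zero _ hθ0))] at hprod
    have h0 : θ ^ S ≠ 0 := pow_ne_zero _ hθ0
    apply mul_right_cancel₀ h0
    rw [← pow_succ, Nat.sub_add_cancel (by omega), ← hprod, one_mul]
  set D := torusD (2 * m) q with hD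
  have hDS : D = S * (q - 1) := by
    have h1 := torusD_mul (n := 2 * m) (q := q) (by omega)
    rw [if_neg (by simp), ← hD, pow_mul] at h1
    have h2 : S * (q ^ 2 - 1) = (q ^ 2) ^ m - 1 := Nat.div_mul_cancel (Nat.sub_one_dvd_pow_sub_one _ _)
    apply Nat.eq_of_mul_eq_mul_right (show 0 < q + 1 by omega)
    rw [h1, ← h2, show q ^ 2 - 1 = (q + 1) * (q - 1) by rw [← Nat.sq_sub_sq, one_pow]]
    ring
  set d := Nat.gcd D (q + 1) with hd
  have hθD : θ ^ D = 1 := by rw [hDS, pow_mul, hθS1]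
  have hy : (θ ^ (D / d)) ^ d = 1 := by
    rw [← pow_mul, Nat.div_mul_cancel (Nat.gcd_dvd_left _ _), hθD]
  have hpow1 : ∀ e : ℕ, d ∣ e → (θ ^ (D / d)) ^ e = 1 := fun e he => by
    obtain ⟨k, rfl⟩ := he
    rw [pow_mul, hy, one_pow]
  obtain ⟨x, hx⟩ := exists_algebraMap_eq (F := F) (θ ^ (D / d)) (hpow1 _ (by
    rw [hF, show q ^ 2 - 1 = (q + 1) * (q - 1) by rw [← Nat.sq_sub_sq, one_pow]]
    exact dvd_mul_of_dvd_left (Nat.gcd_dvd_right _ _) _))
  refine ⟨x, pow_eq_of_dvd A ?_⟩
  rw [hchar]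
  refine hcop.mul_dvd (dvd_of_root hf hx.symm) (minpoly.dvd F β ?_)
  rw [map_sub, map_pow, aeval_X, aeval_C, hx, hβ, sub_eq_zero, ← pow_mul, mul_comm q, pow_mul,
    inv_pow, inv_pow]
  refine inv_eq_of_mul_eq_one_right ?_
  rw [← pow_succ]
  exact hpow1 _ (Nat.gcd_dvd_right _ _)

/-- The criterion. -/
theorem unitary_criterion (hF : Fintype.card F = q ^ 2) (hodd : Odd q) {m : ℕ} (hm : 2 ≤ m) :
    (∃ g : Cfsg.PSU (2 * m) F q, orderOf g = if Even m then q ^ m + 1 else q ^ m - 1) ↔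
      padicValNat 2 (q + 1) < padicValNat 2 (2 * m) := by
  classical
  have hq2 := two_le_q hF
  obtain ⟨G, hG, hGd⟩ := cofactor q m hq2
  set N := if Even m then q ^ m + 1 else q ^ m - 1 with hN
  have hpow : 2 ≤ q ^ m := hq2.trans (Nat.le_self_pow (by omega) q)
  have hNpos : 0 < N := by rw [hN]; split_ifs <;> omega
  set D := torusD (2 * m) q with hD
  set d := Nat.gcd D (q + 1) with hd
  have hd' : d = Nat.gcd (2 * m) (q + 1) := torus_gcd hq2
  have hDN : D = N * G := by
    have h1 := torusD_mul (n := 2 * m) (q := q) (by omega)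
    rw [if_neg (by simp), ← hD] at h1
    apply Nat.eq_of_mul_eq_mul_right (show 0 < q + 1 by omega)
    rw [h1, mul_assoc, hG, hN, mul_comm 2, pow_mul]
    split_ifs <;> [skip; rw [mul_comm]] <;> rw [← Nat.sq_sub_sq, one_pow]
  have hkey : N ∣ D / d ↔ padicValNat 2 (q + 1) < padicValNat 2 (2 * m) := by
    rw [← Cfsg.Agent.S2495.gcd_dvd_half_iff m (q + 1) (by omega) (by omega), ← hd',
      ← hGd d (Nat.gcd_dvd_right _ _), Nat.dvd_div_iff_mul_dvd (Nat.gcd_dvd_left _ _), mul_comm d]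
    conv_lhs => arg 2; rw [hDN]
    exact Nat.mul_dvd_mul_iff_left hNpos
  rw [← hkey]
  constructor
  · rintro ⟨x, hx⟩
    obtain ⟨g, rfl⟩ := QuotientGroup.mk'_surjective (Subgroup.center (Cfsg.SU (2 * m) F q)) x
    have hq0 : q ≠ 2 := fun h => by rw [h] at hodd; exact absurd hodd (by decide)
    set K := if Even m then 2 * m else m with hK
    have hK2 : 2 ≤ K := by rw [hK]; split_ifs <;> omega
    obtain ⟨r, hr, hro⟩ := Arith.exists_prime_orderOf_eq (by omega : 1 < q) (by omega : 1 < K)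
      (fun h => hq0 h.1) (fun h => by
        rcases h with ⟨h, -⟩
        rw [hK] at h
        split_ifs at h with he
        · omega
        · exact he (h ▸ even_two))
    haveI := Fact.mk hr
    obtain ⟨hr1, hr3⟩ := (Arith.primitive_iff_orderOf (by omega) (by omega)).2 hro
    have hr2 : r ≠ 2 := by
      have h := Arith.lt_of_orderOf_eq (by omega) hro
      omega
    have hrq : ¬ r ∣ q := Arith.not_dvd_of_orderOf_eq (by omega) hro
    have hrN : r ∣ N := by
      rw [hN]
      by_cases he : Even m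
      · rw [if_pos he]
        rw [hK, if_pos he] at hr1
        have h : r ∣ (q ^ m + 1) * (q ^ m - 1) := by
          rwa [← Nat.sq_sub_sq, one_pow, ← pow_mul, mul_comm m 2]
        exact (hr.dvd_mul.1 h).resolve_right (hr3 m (by omega) (by rw [hK, if_pos he]; omega))
      · rw [if_neg he]
        rwa [hK, if_neg he] at hr1
    have hrF : (r : F) ≠ 0 := by
      obtain ⟨p, hp⟩ := CharP.exists F
      obtain ⟨e, hpp, he⟩ := FiniteField.card F p
      intro h
      have hrp : p = r := (Nat.prime_dvd_prime_iff_eq hpp hr).1 ((CharP.cast_eq_zero_iff F p r).1 h)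
      subst hrp
      exact hrq (hr.dvd_of_dvd_pow (hF ▸ he ▸ dvd_pow_self p e.ne_zero))
    have hordr : orderOf (Fintype.card F : ZMod r) = m := by
      rw [hF, Nat.cast_pow, orderOf_pow' _ two_ne_zero, hro, hK]
      by_cases he : Even m
      · rw [if_pos he, Nat.gcd_eq_right (dvd_mul_right 2 m), Nat.mul_div_cancel_left m (by norm_num)]
      · rw [if_neg he, (Nat.coprime_two_right.2 (Nat.not_even_iff_odd.1 he)).gcd_eq_one, Nat.div_one]
    have hrm : Odd m → r ∣ q ^ m - 1 := fun ho => by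
      rwa [hK, if_neg (Nat.not_even_iff_odd.2 ho)] at hr1
    obtain ⟨c, hc⟩ := scalar_of_primitive hF hm hr hr2 hrF hordr hrm g
      ((hrN.trans (dvd_of_eq hx.symm)).trans (orderOf_map_dvd _ g))
    rw [← hx]
    apply orderOf_dvd_of_pow_eq_one
    rw [← map_pow]
    exact proj_eq_one_of_scalar _ c (by rw [coe_pow']; exact hc)
  · intro h
    obtain ⟨g, hg⟩ := exists_torus (n := 2 * m) hF (by omega)
    obtain ⟨x, hx⟩ := Cfsg.Agent.Spectrum.mem_range_orderOf_of_dvd
      (⟨_, rfl⟩ : orderOf (Cfsg.Agent.Spec.Unitary.proj g) ∈ Set.range _) (h.trans hg)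
    exact ⟨x, hx⟩

end Cfsg.Agent.SpecGL
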