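import Mathlib
import Cfsg.Agent.Spec.PSLn
import Cfsg.Agent.Spectrum.Linear

/-!
Element orders in `GL_n`, `SL_n` and `PSL_n` over a finite field: projective orders, the degrees
of characteristic factors attached to a prime, block elements and Singer elements.
-/

set_option autoImplicit false

open Polynomial Matrix

namespace Cfsg.Agent.SpecGL

open Cfsg.Agent.Spec (proj proj_eq_one_iff dvd_charpoly_dvd_minpoly)

variable {F : Type*} [Field F] {n : ℕ}

local notation "S" => Matrix.SpecialLinearGroup (Fin n) F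
local notation "M" => Matrix (Fin n) (Fin n) F

theorem smul_one_injective [NeZero n] {a b : F} (h : a • (1 : M) = b • (1 : M)) : a = b := by
  simpa using congrFun (congrFun h 0) 0

theorem scalar_eq_smul_one (c : F) : Matrix.scalar (Fin n) c = c • (1 : M) := by
  rw [Matrix.scalar_apply, Matrix.smul_one_eq_diagonal]

theorem orderOf_coe (g : S) : orderOf (g : M) = orderOf g := by
  refine orderOf_eq_orderOf_iff.2 fun i => ?_
  rw [← Matrix.SpecialLinearGroup.coe_pow, ← Matrix.SpecialLinearGroup.coe_one]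
  exact ⟨fun h => Subtype.ext h, fun h => congrArg Subtype.val h⟩

theorem orderOf_proj_dvd [NeZero n] (g : S) {N : ℕ} {c : F} (h : (g : M) ^ N = c • 1) :
    orderOf (proj g) ∣ N := by
  apply orderOf_dvd_of_pow_eq_one
  rw [← map_pow, proj_eq_one_iff]
  exact ⟨c, by rw [scalar_eq_smul_one, Matrix.SpecialLinearGroup.coe_pow, h]⟩

theorem exists_scalar [NeZero n] (g : S) :
    ∃ c : F, c ^ n = 1 ∧ (g : M) ^ orderOf (proj g) = c • 1 := by
  obtain ⟨c, hc⟩ := (proj_eq_one_iff (g ^ orderOf (proj g))).1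
    (by rw [map_pow, pow_orderOf_eq_one])
  rw [scalar_eq_smul_one, Matrix.SpecialLinearGroup.coe_pow] at hc
  refine ⟨c, ?_, hc.symm⟩
  have h := congrArg Matrix.det hc
  rwa [Matrix.det_smul, Matrix.det_one, mul_one, Matrix.det_pow, g.2, one_pow, Fintype.card_fin] at h

variable [Fintype F]

theorem pow_gcd_card (c : F) (h : c ^ n = 1) [NeZero n] :
    c ^ Nat.gcd n (Fintype.card F - 1) = 1 :=
  pow_gcd_eq_one.2 ⟨h, FiniteField.pow_card_sub_one_eq_one c fun hc => by
    rw [hc, zero_pow (NeZero.ne n)] at h; exact zero_ne_one h⟩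

theorem orderOf_dvd_proj_mul [NeZero n] (g : S) :
    orderOf g ∣ orderOf (proj g) * Nat.gcd n (Fintype.card F - 1) := by
  obtain ⟨c, hc, hg⟩ := exists_scalar g
  rw [← orderOf_coe]
  apply orderOf_dvd_of_pow_eq_one
  rw [pow_mul, hg, _root_.smul_pow, one_pow, pow_gcd_card c hc, one_smul]

/-- A matrix whose order is prime to `q - 1` gives a projective element of that order. -/
theorem exists_psl_of_matrix [NeZero n] (A : M) {N : ℕ} (hN0 : N ≠ 0) (hA : orderOf A = N)
    (hN : N.Coprime (Fintype.card F - 1)) :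
    ∃ x : Matrix.ProjectiveSpecialLinearGroup (Fin n) F, orderOf x = N := by
  have hpow : A ^ N = 1 := hA ▸ pow_orderOf_eq_one A
  have hdet : A.det = 1 := by
    have h1 : A.det ^ N = 1 := by rw [← Matrix.det_pow, hpow, Matrix.det_one]
    have h2 : A.det ^ (Fintype.card F - 1) = 1 := FiniteField.pow_card_sub_one_eq_one _ fun h => by
      rw [h, zero_pow hN0] at h1; exact zero_ne_one h1
    have := pow_gcd_eq_one.2 ⟨h1, h2⟩
    rwa [hN.gcd_eq_one, pow_one] at this
  let g : S := ⟨A, hdet⟩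
  refine ⟨proj g, Nat.dvd_antisymm ?_ ?_⟩
  · exact orderOf_proj_dvd g (c := 1) (by rw [one_smul]; exact hpow)
  · have h := orderOf_dvd_proj_mul g
    rw [← orderOf_coe, show orderOf (g : M) = N from hA] at h
    exact (hN.coprime_dvd_right (Nat.gcd_dvd_right _ _)).dvd_of_dvd_mul_right h

/-- A projective element of order prime to `q - 1` lifts to a matrix of the same order. -/
theorem exists_matrix_of_psl [NeZero n] (x : Matrix.ProjectiveSpecialLinearGroup (Fin n) F) :
    ∃ g : S, orderOf g = orderOf x := by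
  obtain ⟨g, rfl⟩ := QuotientGroup.mk'_surjective (Subgroup.center S) x
  exact ⟨g ^ (orderOf g / orderOf (proj g)),
    orderOf_pow_orderOf_div (orderOf_pos g).ne' (orderOf_map_dvd _ g)⟩

theorem pow_eq_of_dvd (A : M) {N : ℕ} {c : F} (h : A.charpoly ∣ X ^ N - C c) :
    A ^ N = c • 1 := by
  obtain ⟨w, hw⟩ := h
  have := congrArg (aeval A) hw
  rw [map_mul, Matrix.aeval_self_charpoly, zero_mul, map_sub, map_pow, aeval_X, aeval_C,
    sub_eq_zero, Algebra.algebraMap_eq_smul_one] at this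
  exact this

theorem minpoly_dvd_of_pow (A : M) {N : ℕ} (h : A ^ N = 1) : minpoly F A ∣ X ^ N - 1 :=
  minpoly.dvd F A (by rw [map_sub, map_pow, aeval_X, map_one, h, sub_self])

section Root

variable {h : F[X]}

theorem natCard_adjoinRoot (hh : Irreducible h) [Fact (Irreducible h)] :
    Nat.card (AdjoinRoot h) = Fintype.card F ^ h.natDegree := by
  haveI : Module.Finite F (AdjoinRoot h) := (AdjoinRoot.powerBasis hh.ne_zero).finite
  rw [Module.natCard_eq_pow_finrank (K := F), (AdjoinRoot.powerBasis hh.ne_zero).finrank,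
    AdjoinRoot.powerBasis_dim, Nat.card_eq_fintype_card]

theorem root_norm (hh : Irreducible h) [Fact (Irreducible h)] (hmon : h.Monic) :
    (AdjoinRoot.root h) ^ ((Fintype.card F ^ h.natDegree - 1) / (Fintype.card F - 1)) =
      algebraMap F (AdjoinRoot h) ((-1) ^ h.natDegree * h.coeff 0) := by
  haveI : Module.Finite F (AdjoinRoot h) := (AdjoinRoot.powerBasis hh.ne_zero).finite
  haveI : Finite (AdjoinRoot h) := Module.finite_of_finite F
  have h1 := Algebra.PowerBasis.norm_gen_eq_coeff_zero_minpoly (AdjoinRoot.powerBasis hh.ne_zero)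
  rw [AdjoinRoot.powerBasis_gen, AdjoinRoot.powerBasis_dim, AdjoinRoot.minpoly_root hh.ne_zero,
    hmon.leadingCoeff, inv_one, map_one, mul_one] at h1
  rw [← h1, FiniteField.algebraMap_norm_eq_pow, natCard_adjoinRoot hh, Nat.card_eq_fintype_card]

theorem dvd_of_root (hh : Irreducible h) [Fact (Irreducible h)] {N : ℕ} {c : F}
    (hr : (AdjoinRoot.root h) ^ N = algebraMap F (AdjoinRoot h) c) : h ∣ X ^ N - C c := by
  rw [← AdjoinRoot.mk_eq_zero, map_sub, map_pow, AdjoinRoot.mk_X, AdjoinRoot.mk_C, sub_eq_zero, hr,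
    AdjoinRoot.algebraMap_eq]

theorem orderOf_dvd_natDegree (hh : Irreducible h) {r t : ℕ} (hr : r.Prime)
    (h1 : h ∣ X ^ (r * t) - 1) (h2 : ¬ h ∣ X ^ t - 1) :
    orderOf (Fintype.card F : ZMod r) ∣ h.natDegree := by
  haveI := Fact.mk hh
  haveI := Fact.mk hr
  haveI : Module.Finite F (AdjoinRoot h) := (AdjoinRoot.powerBasis hh.ne_zero).finite
  haveI : Finite (AdjoinRoot h) := Module.finite_of_finite F
  haveI := Fintype.ofFinite (AdjoinRoot h)
  set a := (AdjoinRoot.root h) ^ t
  have ha1 : a ≠ 1 := fun e => h2 (by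
    rw [← AdjoinRoot.mk_eq_zero, map_sub, map_pow, AdjoinRoot.mk_X, map_one, sub_eq_zero]; exact e)
  have har : a ^ r = 1 := by
    rw [← pow_mul, mul_comm]
    rw [← AdjoinRoot.mk_eq_zero, map_sub, map_pow, AdjoinRoot.mk_X, map_one, sub_eq_zero] at h1
    exact h1
  have hord : orderOf a = r := orderOf_eq_prime har ha1
  have ha0 : a ≠ 0 := fun e => by rw [e, zero_pow hr.ne_zero] at har; exact zero_ne_one har
  have h3 := orderOf_dvd_of_pow_eq_one (FiniteField.pow_card_sub_one_eq_one a ha0)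
  rw [hord, ← Nat.card_eq_fintype_card, natCard_adjoinRoot hh] at h3
  apply orderOf_dvd_of_pow_eq_one
  rw [← Nat.cast_pow, ← sub_eq_zero, ← Nat.cast_one,
    ← Nat.cast_sub (Nat.one_le_pow _ _ Fintype.card_pos), (ZMod.natCast_eq_zero_iff _ r).2 h3]

end Root

/-- If the order of `A` involves the prime `r`, some characteristic factor has degree divisible by
the order of `q` modulo `r`. -/
theorem exists_factor (A : M) {r t : ℕ} (hr : r.Prime) (hrF : (r : F) ≠ 0)
    (h1 : A ^ (r * t) = 1) (h2 : A ^ t ≠ 1) :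
    ∃ f : F[X], Irreducible f ∧ f.Monic ∧ f ∣ A.charpoly ∧ ¬ f ∣ X ^ t - 1 ∧
      orderOf (Fintype.card F : ZMod r) ∣ f.natDegree := by
  classical
  have hmin := minpoly_dvd_of_pow A h1
  have hdec : (X : F[X]) ^ (r * t) - 1 = (X ^ t - 1) * ∑ i ∈ Finset.range r, (X ^ t) ^ i := by
    rw [mul_comm r t, pow_mul, mul_geom_sum]
  set Φ : F[X] := ∑ i ∈ Finset.range r, (X ^ t) ^ i
  by_contra hno
  push Not at hno
  have hcop : IsCoprime (minpoly F A) Φ := by
    refine isCoprime_of_irreducible_dvd (fun h => minpoly.ne_zero A.isIntegral h.1) ?_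
    intro z hz hzm hzΦ
    set f := z * C z.leadingCoeff⁻¹ with hf
    have hu : IsUnit (C z.leadingCoeff⁻¹) :=
      isUnit_C.2 (isUnit_iff_ne_zero.2 (inv_ne_zero (leadingCoeff_ne_zero.2 hz.ne_zero)))
    have hfi : Irreducible f := (irreducible_mul_isUnit hu).2 hz
    have hfm : f ∣ minpoly F A := hu.mul_right_dvd.2 hzm
    have hfΦ : f ∣ Φ := hu.mul_right_dvd.2 hzΦ
    have hft : f ∣ X ^ t - 1 := by
      by_contra hft
      exact hno f hfi (monic_mul_leadingCoeff_inv hz.ne_zero)
        (hfm.trans (Matrix.minpoly_dvd_charpoly A)) hft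
        (orderOf_dvd_natDegree hfi hr (hfm.trans hmin) hft)
    have hΦr : f ∣ Φ - (r : F[X]) := by
      have : Φ - (r : F[X]) = ∑ i ∈ Finset.range r, ((X ^ t) ^ i - 1) := by
        rw [Finset.sum_sub_distrib, Finset.sum_const, Finset.card_range, nsmul_one]
      rw [this]
      exact Finset.dvd_sum fun i _ => hft.trans (sub_one_dvd_pow_sub_one _ _)
    have hfr : f ∣ (r : F[X]) := by simpa using dvd_sub hfΦ hΦr
    rw [← map_natCast (C : F →+* F[X])] at hfr
    exact hfi.not_isUnit (isUnit_of_dvd_unit hfr (isUnit_C.2 (isUnit_iff_ne_zero.2 hrF)))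
  apply h2
  obtain ⟨w, hw⟩ := hcop.dvd_of_dvd_mul_right (hdec ▸ hmin)
  have := congrArg (aeval A) hw
  rwa [map_mul, minpoly.aeval, zero_mul, map_sub, map_pow, aeval_X, map_one, sub_eq_zero] at this

theorem natDegree_add_le (A : M) {f g : F[X]} (hf : Irreducible f) (hg : Irreducible g)
    (hfm : f.Monic) (hgm : g.Monic) (hne : f ≠ g) {j : ℕ} (hfd : f ∣ A.charpoly)
    (hgd : g ^ j ∣ A.charpoly) : f.natDegree + j * g.natDegree ≤ n := by
  have hcop : IsCoprime f (g ^ j) := ((hf.coprime_iff_not_dvd).2 fun h =>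
    hne (eq_of_monic_of_associated hfm hgm (hf.associated_of_dvd hg h))).pow_right
  have h := natDegree_le_of_dvd (hcop.mul_dvd hfd hgd) A.charpoly_monic.ne_zero
  rwa [natDegree_mul hf.ne_zero (pow_ne_zero _ hg.ne_zero), natDegree_pow,
    Matrix.charpoly_natDegree_eq_dim, Fintype.card_fin] at h

theorem natDegree_le (A : M) {f : F[X]} (hfd : f ∣ A.charpoly) : f.natDegree ≤ n := by
  have h := natDegree_le_of_dvd hfd A.charpoly_monic.ne_zero
  rwa [Matrix.charpoly_natDegree_eq_dim, Fintype.card_fin] at h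

/-- Block diagonal matrices. -/
def blockHom {a b : ℕ} (h : a + b = n) :
    Matrix (Fin a) (Fin a) F × Matrix (Fin b) (Fin b) F →* M where
  toFun P := Matrix.reindexAlgEquiv F F (finSumFinEquiv.trans (finCongr h)) (fromBlocks P.1 0 0 P.2)
  map_one' := by
    rw [Prod.fst_one, Prod.snd_one, fromBlocks_one, map_one]
  map_mul' P Q := by
    rw [← map_mul, fromBlocks_multiply]
    simp

theorem blockHom_injective {a b : ℕ} (h : a + b = n) :
    Function.Injective (blockHom (F := F) h) := by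
  intro P Q e
  obtain ⟨h1, -, -, h2⟩ := fromBlocks_inj.1
    ((Matrix.reindexAlgEquiv F F (finSumFinEquiv.trans (finCongr h))).injective e)
  exact Prod.ext h1 h2

theorem det_blockHom {a b : ℕ} (h : a + b = n)
    (P : Matrix (Fin a) (Fin a) F × Matrix (Fin b) (Fin b) F) :
    (blockHom h P).det = P.1.det * P.2.det := by
  show (Matrix.reindexAlgEquiv F F _ _).det = _
  rw [Matrix.det_reindexAlgEquiv, det_fromBlocks_zero₂₁]

theorem blockHom_smul_one {a b : ℕ} (h : a + b = n) (c : F) :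
    blockHom h (c • 1, c • 1) = c • (1 : M) := by
  show Matrix.reindexAlgEquiv F F _ _ = _
  have : fromBlocks (c • (1 : Matrix (Fin a) (Fin a) F)) 0 0 (c • (1 : Matrix (Fin b) (Fin b) F)) = c • 1 := by
    rw [← fromBlocks_one, fromBlocks_smul, smul_zero, smul_zero]
  rw [this, map_smul, map_one]

/-- A matrix of order `N` in a smaller size. -/
theorem exists_orderOf_of_dvd {a N : ℕ} {d : ℕ} (hd : 1 ≤ d) (hda : d ≤ a) (hN : N ∣ Fintype.card F ^ d - 1) :
    ∃ A : Matrix (Fin a) (Fin a) F, A.det ≠ 0 ∧ orderOf A = N := by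
  obtain ⟨A, hA, hAo⟩ := Spectrum.exists_orderOf_eq_pow_sub_one (F := F) hd hda
  have hpos : Fintype.card F ^ d - 1 ≠ 0 :=
    (Nat.sub_pos_of_lt (Nat.one_lt_pow (by omega) Fintype.one_lt_card)).ne'
  refine ⟨A ^ (orderOf A / N), by rw [Matrix.det_pow]; exact pow_ne_zero _ hA, ?_⟩
  exact orderOf_pow_orderOf_div (hAo ▸ hpos) (hAo ▸ hN)

theorem exists_singer_sl [NeZero n] :
    ∃ T : S, orderOf T = (Fintype.card F ^ n - 1) / (Fintype.card F - 1) := by
  obtain ⟨A, hA, hAo⟩ := Spectrum.exists_orderOf_eq_pow_sub_one (F := F) (NeZero.one_le (n := n)) le_rfl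
  have hdet : (A ^ (Fintype.card F - 1)).det = 1 := by
    rw [Matrix.det_pow]; exact FiniteField.pow_card_sub_one_eq_one _ hA
  let T : S := ⟨_, hdet⟩
  refine ⟨T, ?_⟩
  · refine (orderOf_coe T).symm.trans ?_
    show orderOf (A ^ (Fintype.card F - 1)) = _
    rw [orderOf_pow_of_dvd (Nat.sub_pos_of_lt Fintype.one_lt_card).ne'
      (hAo ▸ Nat.sub_one_dvd_pow_sub_one _ _), hAo]

end Cfsg.Agent.SpecGL
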