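import Cfsg.Agent.SpecGL.Basic
import Cfsg.Agent.Spectrum.Basic

/-! The element orders of `PSL(3, q)`. -/

set_option autoImplicit false

open Polynomial Matrix

namespace Cfsg.Agent.SpecGL

open Cfsg.Agent.Spec (proj)

variable {F : Type*} [Field F] [Fintype F]

theorem exists_algebraMap_eq {K : Type*} [Field K] [Algebra F K] (y : K)
    (hy : y ^ (Fintype.card F - 1) = 1) : ∃ c : F, algebraMap F K c = y := by
  classical
  by_contra hno
  push Not at hno
  set q := Fintype.card F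
  have hq : 1 < q := Fintype.one_lt_card
  let T : Finset K := insert y (Finset.univ.image (algebraMap F K))
  have hsub : T.val ⊆ (X ^ q - X : K[X]).roots := by
    intro x hx
    rw [mem_roots (FiniteField.X_pow_card_sub_X_ne_zero K hq), IsRoot, eval_sub, eval_pow, eval_X,
      sub_eq_zero]
    rcases Finset.mem_insert.1 hx with rfl | hx'
    · rw [show q = q - 1 + 1 by omega, pow_succ, hy, one_mul]
    · obtain ⟨c, -, rfl⟩ := Finset.mem_image.1 hx'
      rw [← map_pow, FiniteField.pow_card]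
  have h := Polynomial.card_le_degree_of_subset_roots hsub
  rw [FiniteField.X_pow_card_sub_X_natDegree_eq K hq, Finset.card_insert_of_notMem (by simpa using hno),
    Finset.card_image_of_injective _ (algebraMap F K).injective, Finset.card_univ] at h
  omega

local notation "q" => Fintype.card F
local notation "d" => Nat.gcd 3 (Fintype.card F - 1)
local notation "S3" => Matrix.SpecialLinearGroup (Fin 3) F

theorem card_cube_sub_one : (q ^ 3 - 1) / (q - 1) = q ^ 2 + q + 1 := by
  have hq : 1 < q := Fintype.one_lt_card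
  rw [← Nat.geomSum_eq hq]
  simp [Finset.sum_range_succ]
  ring

theorem gcd_dvd_singer : d ∣ q ^ 2 + q + 1 := by
  have hq : 1 ≤ q := Fintype.card_pos
  have h1 := Nat.gcd_dvd_left 3 (q - 1)
  have h2 := Nat.gcd_dvd_right 3 (q - 1)
  have : q ^ 2 + q + 1 = (q - 1) * (q + 2) + 3 := by
    obtain ⟨m, hm⟩ := Nat.exists_eq_add_of_le hq
    rw [hm, Nat.add_sub_cancel_left]; ring
  rw [this]
  exact dvd_add (dvd_mul_of_dvd_left h2 _) h1

theorem gcd_dvd_sq_sub_one : d ∣ q ^ 2 - 1 :=
  (Nat.gcd_dvd_right 3 (q - 1)).trans (Nat.sub_one_dvd_pow_sub_one _ _)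

/-- Every projective order divides one of the listed numbers. -/
theorem orderOf_cases (p : ℕ) [Fact p.Prime] [CharP F p] (g : S3) :
    orderOf (proj g) ∣ (q ^ 2 + q + 1) / d ∨ orderOf (proj g) ∣ (q ^ 2 - 1) / d ∨
      orderOf (proj g) ∣ q - 1 ∨ orderOf (proj g) ∣ p * (q - 1) / d ∨ (p = 2 ∧ orderOf (proj g) ∣ 4) ∨
      orderOf (proj g) ∣ p := by
  classical
  set A := (g : Matrix (Fin 3) (Fin 3) F) with hA
  have hmon : A.charpoly.Monic := A.charpoly_monic
  have hdeg : A.charpoly.natDegree = 3 := by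
    rw [Matrix.charpoly_natDegree_eq_dim, Fintype.card_fin]
  have hc0 : A.charpoly.coeff 0 = -1 := by
    have h := Matrix.det_eq_sign_charpoly_coeff A
    rw [show A.det = 1 from g.2, Fintype.card_fin] at h
    linear_combination h
  have hd1 : d ∣ q - 1 := Nat.gcd_dvd_right 3 (q - 1)
  have hd3 : d ∣ 3 := Nat.gcd_dvd_left 3 (q - 1)
  by_cases hroot : A.charpoly.roots = 0
  · -- irreducible
    left
    have hirr : Irreducible A.charpoly :=
      (hmon.irreducible_iff_roots_eq_zero_of_degree_le_three (by omega) (by omega)).2 hroot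
    haveI := Fact.mk hirr
    have h := root_norm hirr hmon
    rw [hdeg, hc0, card_cube_sub_one, show ((-1 : F) ^ 3 * -1) = 1 by norm_num, map_one] at h
    set θ := AdjoinRoot.root A.charpoly
    obtain ⟨c, hc⟩ := exists_algebraMap_eq (F := F) (θ ^ ((q ^ 2 + q + 1) / d)) (by
      obtain ⟨e, he⟩ := hd1
      have hMe : (q ^ 2 + q + 1) / d * (q - 1) = (q ^ 2 + q + 1) * e := by
        calc (q ^ 2 + q + 1) / d * (q - 1) = (q ^ 2 + q + 1) / d * (d * e) := congrArg _ he
          _ = _ := by rw [← mul_assoc, Nat.div_mul_cancel gcd_dvd_singer]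
      rw [← pow_mul, hMe, pow_mul, h, one_pow])
    exact orderOf_proj_dvd g (pow_eq_of_dvd A (dvd_of_root hirr hc.symm))
  obtain ⟨a, ha⟩ := Multiset.exists_mem_of_ne_zero hroot
  obtain ⟨h, hh⟩ := dvd_iff_isRoot.2 (isRoot_of_mem_roots ha)
  have hhmon : h.Monic := (monic_X_sub_C a).of_mul_monic_left (hh ▸ hmon)
  have hhdeg : h.natDegree = 2 := by
    have := hdeg
    rw [hh, (monic_X_sub_C a).natDegree_mul hhmon, natDegree_X_sub_C] at this
    omega
  have hha : a * h.coeff 0 = 1 := by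
    have := hc0
    rw [hh, mul_coeff_zero, coeff_sub, coeff_X_zero, coeff_C_zero] at this
    linear_combination -this
  have ha0 : a ≠ 0 := left_ne_zero_of_mul_eq_one hha
  by_cases hroot2 : h.roots = 0
  · -- a line and an irreducible plane
    right; left
    have hirr : Irreducible h :=
      (hhmon.irreducible_iff_roots_eq_zero_of_degree_le_three (by omega) (by omega)).2 hroot2
    haveI := Fact.mk hirr
    have hn := root_norm hirr hhmon
    rw [hhdeg, show ((q ^ 2 - 1) / (q - 1)) = q + 1 from by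
      rw [← Nat.geomSum_eq Fintype.one_lt_card]; simp [Finset.sum_range_succ]; ring,
      show ((-1 : F) ^ 2 * h.coeff 0) = h.coeff 0 by ring] at hn
    set N := (q ^ 2 - 1) / d
    set m := (q - 1) / d
    have hN : N = (q + 1) * m := by
      show (q ^ 2 - 1) / d = (q + 1) * ((q - 1) / d)
      rw [show q ^ 2 - 1 = (q + 1) * (q - 1) from by rw [← Nat.sq_sub_sq, one_pow],
        Nat.mul_div_assoc _ hd1]
    have hm3 : (q - 1) ∣ 3 * m := by
      obtain ⟨e, he⟩ := hd3
      exact ⟨e, by rw [he, mul_comm d e, mul_assoc, Nat.mul_div_cancel' hd1, mul_comm]⟩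
    have ha3 : a ^ (3 * m) = 1 := by
      obtain ⟨e, he⟩ := hm3
      rw [he, pow_mul, FiniteField.pow_card_sub_one_eq_one a ha0, one_pow]
    have hpowN : a ^ N = h.coeff 0 ^ m := by
      rw [eq_inv_of_mul_eq_one_right hha, inv_pow, hN, pow_mul, show a ^ (q + 1) = a * a by
        rw [pow_succ, FiniteField.pow_card]]
      refine eq_inv_of_mul_eq_one_right ?_
      rw [← ha3, ← sq, ← pow_mul, pow_mul, ← mul_pow]
      ring
    refine orderOf_proj_dvd g (c := a ^ N) (pow_eq_of_dvd A ?_)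
    show A.charpoly ∣ _
    rw [hh]
    refine IsCoprime.mul_dvd ((irreducible_X_sub_C a).coprime_iff_not_dvd.2 fun hd' => ?_)
      (dvd_iff_isRoot.2 (by simp [IsRoot])) (dvd_of_root hirr ?_)
    · have := mem_roots'.2 ⟨hirr.ne_zero, dvd_iff_isRoot.1 hd'⟩
      rw [hroot2] at this
      exact Multiset.notMem_zero _ this
    · rw [hpowN, hN, pow_mul, hn, map_pow]
  obtain ⟨b, hb⟩ := Multiset.exists_mem_of_ne_zero hroot2
  obtain ⟨l, hl⟩ := dvd_iff_isRoot.2 (isRoot_of_mem_roots hb)
  have hlmon : l.Monic := (monic_X_sub_C b).of_mul_monic_left (hl ▸ hhmon)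
  have hldeg : l.natDegree = 1 := by
    have := hhdeg
    rw [hl, (monic_X_sub_C b).natDegree_mul hlmon, natDegree_X_sub_C] at this
    omega
  set c := -l.coeff 0 with hc
  have hle : l = X - C c := by
    rw [hlmon.eq_X_add_C hldeg, hc, map_neg, sub_neg_eq_add]
  have hsplit : A.charpoly = (X - C a) * (X - C b) * (X - C c) := by rw [hh, hl, hle, mul_assoc]
  have habc : a * b * c = 1 := by
    rw [← hha, hl, hle, mul_coeff_zero, coeff_sub, coeff_sub, coeff_X_zero, coeff_C_zero, coeff_C_zero]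
    ring
  by_cases hdist : a ≠ b ∧ a ≠ c ∧ b ≠ c
  · right; right; left
    obtain ⟨hab, hac, hbc⟩ := hdist
    refine orderOf_proj_dvd g (c := 1) (pow_eq_of_dvd A ?_)
    show A.charpoly ∣ _
    rw [hsplit]
    have hlin : ∀ x : F, x ≠ 0 → X - C x ∣ X ^ (q - 1) - C 1 := fun x hx => dvd_iff_isRoot.2 (by
      simp [IsRoot, FiniteField.pow_card_sub_one_eq_one x hx])
    refine IsCoprime.mul_dvd (IsCoprime.mul_left (isCoprime_X_sub_C_of_isUnit_sub ?_)
      (isCoprime_X_sub_C_of_isUnit_sub ?_)) (IsCoprime.mul_dvd (isCoprime_X_sub_C_of_isUnit_sub ?_)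
        (hlin a ha0) (hlin b fun e => by rw [e, mul_zero, zero_mul] at habc; exact zero_ne_one habc))
      (hlin c fun e => by rw [e, mul_zero] at habc; exact zero_ne_one habc)
    · exact (sub_ne_zero.2 hac).isUnit
    · exact (sub_ne_zero.2 hbc).isUnit
    · exact (sub_ne_zero.2 hab).isUnit
  -- some eigenvalue repeats
  obtain ⟨u, v, huv, hfac⟩ : ∃ u v : F, u * (v * v) = 1 ∧
      A.charpoly = (X - C u) * (X - C v) * (X - C v) := by
    by_cases h1 : a = b
    · exact ⟨c, a, by rw [← habc, h1]; ring, by rw [hsplit, h1]; ring⟩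
    by_cases h2 : a = c
    · exact ⟨b, a, by rw [← habc, h2]; ring, by rw [hsplit, h2]; ring⟩
    have h3 : b = c := by by_contra h3; exact hdist ⟨h1, h2, h3⟩
    exact ⟨a, b, by rw [← habc, h3]; ring, by rw [hsplit, h3]⟩
  have hp2 : 2 ≤ p := (Fact.out : p.Prime).two_le
  by_cases hq : u = v
  · -- one eigenvalue
    right; right; right; right
    subst hq
    have hcube : A.charpoly = (X - C u) ^ 3 := by rw [hfac]; ring
    rcases Nat.lt_or_ge p 3 with hp | hp
    · left
      have hp' : p = 2 := by omega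
      refine ⟨hp', orderOf_proj_dvd g (c := u ^ 4) (pow_eq_of_dvd A ?_)⟩
      show A.charpoly ∣ _
      rw [hcube]
      refine (pow_dvd_pow _ (by norm_num : 3 ≤ 4)).trans ?_
      rw [show (4 : ℕ) = p ^ 2 by rw [hp']; norm_num, sub_pow_char_pow, C_pow]
    · right
      refine orderOf_proj_dvd g (c := u ^ p) (pow_eq_of_dvd A ?_)
      show A.charpoly ∣ _
      rw [hcube]
      refine (pow_dvd_pow _ hp).trans ?_
      rw [sub_pow_char, C_pow]
  · right; right; right; left
    set m := (q - 1) / d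
    have hm3 : (q - 1) ∣ 3 * m := by
      obtain ⟨e, he⟩ := hd3
      exact ⟨e, by rw [he, mul_comm d e, mul_assoc, Nat.mul_div_cancel' hd1, mul_comm]⟩
    have hv0 : v ≠ 0 := fun e => by rw [e, mul_zero, mul_zero] at huv; exact zero_ne_one huv
    have hu0 : u ≠ 0 := left_ne_zero_of_mul_eq_one huv
    have hum : u ^ m = v ^ m := by
      obtain ⟨e, he⟩ := hm3
      have h3 : v ^ (3 * m) = 1 := by
        rw [he, pow_mul, FiniteField.pow_card_sub_one_eq_one v hv0, one_pow]
      have h1 : u ^ m * (v * v) ^ m = 1 := by rw [← mul_pow, huv, one_pow]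
      calc u ^ m = u ^ m * v ^ (3 * m) := by rw [h3, mul_one]
        _ = u ^ m * (v * v) ^ m * v ^ m := by ring
        _ = v ^ m := by rw [h1, one_mul]
    set Q : F[X] := X ^ m - C (v ^ m)
    have hQu : X - C u ∣ Q := dvd_iff_isRoot.2 (by simp [Q, IsRoot, hum])
    have hQv : X - C v ∣ Q := dvd_iff_isRoot.2 (by simp [Q, IsRoot])
    have hQ2 : A.charpoly ∣ Q ^ p := by
      rw [hfac]
      refine (mul_dvd_mul (IsCoprime.mul_dvd
        (isCoprime_X_sub_C_of_isUnit_sub (sub_ne_zero.2 hq).isUnit) hQu hQv) hQv).trans ?_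
      rw [← sq]
      exact pow_dvd_pow Q hp2
    rw [sub_pow_char, ← pow_mul, ← C_pow] at hQ2
    rw [Nat.mul_div_assoc _ hd1, mul_comm p m]
    exact orderOf_proj_dvd g (pow_eq_of_dvd A hQ2)

theorem dvd_orderOf_of_pow {N e o : ℕ} (hd : e ∣ N) (he : 0 < e) (h : N ∣ o * e) : N / e ∣ o := by
  obtain ⟨k, rfl⟩ := hd
  rw [Nat.mul_div_cancel_left _ he]
  rw [mul_comm o e] at h
  exact Nat.dvd_of_mul_dvd_mul_left he h

theorem gcd_pos' : 0 < d := Nat.gcd_pos_of_pos_left _ (by norm_num)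

theorem exists_singer_order : ∃ g : S3, (q ^ 2 + q + 1) / d ∣ orderOf (proj g) := by
  obtain ⟨T, hT⟩ := exists_singer_sl (F := F) (n := 3)
  refine ⟨T, dvd_orderOf_of_pow gcd_dvd_singer gcd_pos' ?_⟩
  rw [← card_cube_sub_one, ← hT]
  exact orderOf_dvd_proj_mul T

theorem exists_block_order : ∃ g : S3, (q ^ 2 - 1) / d ∣ orderOf (proj g) := by
  obtain ⟨B, hB, hBo⟩ := Spectrum.exists_orderOf_eq_pow_sub_one (F := F) (Nat.le_of_lt Nat.one_lt_two) (le_refl 2)
  let C1 : Matrix (Fin 1) (Fin 1) F := Matrix.diagonal fun _ => B.det⁻¹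
  have hdet : (blockHom (F := F) (show 2 + 1 = 3 from rfl) (B, C1)).det = 1 := by
    rw [det_blockHom, Matrix.det_diagonal]
    simp [hB]
  let g : S3 := ⟨_, hdet⟩
  refine ⟨g, dvd_orderOf_of_pow gcd_dvd_sq_sub_one gcd_pos' ?_⟩
  obtain ⟨c, hc, hg⟩ := exists_scalar g
  change blockHom (F := F) (show 2 + 1 = 3 from rfl) (B, C1) ^ orderOf (proj g) = c • 1 at hg
  rw [← map_pow, ← blockHom_smul_one (show 2 + 1 = 3 from rfl) c] at hg
  have hB' : B ^ orderOf (proj g) = c • 1 := congrArg Prod.fst (blockHom_injective _ hg)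
  rw [← hBo]
  apply orderOf_dvd_of_pow_eq_one
  rw [pow_mul, hB', _root_.smul_pow, one_pow, pow_gcd_card c hc, one_smul]

theorem exists_split_order : ∃ g : S3, q - 1 ∣ orderOf (proj g) := by
  obtain ⟨t, ht⟩ := IsCyclic.exists_ofOrder_eq_natCard (α := Fˣ)
  rw [Nat.card_units, Nat.card_eq_fintype_card, ← orderOf_units] at ht
  let D : Matrix (Fin 3) (Fin 3) F := Matrix.diagonal ![(t : F), (t : F)⁻¹, 1]
  have hdet : D.det = 1 := by
    rw [Matrix.det_diagonal, Fin.prod_univ_three]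
    simp [t.ne_zero]
  let g : S3 := ⟨D, hdet⟩
  refine ⟨g, ?_⟩
  obtain ⟨c, -, hg⟩ := exists_scalar g
  change D ^ orderOf (proj g) = c • 1 at hg
  rw [Matrix.diagonal_pow, Matrix.smul_one_eq_diagonal] at hg
  have h := Matrix.diagonal_injective hg
  rw [← ht]
  apply orderOf_dvd_of_pow_eq_one
  have h0 := congrFun h 0
  have h2 := congrFun h 2
  simp at h0 h2
  exact h0.trans h2.symm

theorem jordan_pow (t : F) (i : ℕ) :
    (!![t, 1; 0, t] : Matrix (Fin 2) (Fin 2) F) ^ i = !![t ^ i, (i : F) * t ^ (i - 1); 0, t ^ i] := by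
  induction i with
  | zero => simp [Matrix.one_fin_two]
  | succ i ih =>
    rw [pow_succ, ih]
    ext a b
    fin_cases a <;> fin_cases b <;> simp [Matrix.mul_apply, Fin.sum_univ_two, pow_succ]
    cases i with
    | zero => simp
    | succ i => simp [pow_succ]; ring

theorem exists_mixed_order (p : ℕ) [Fact p.Prime] [CharP F p] :
    ∃ g : S3, p * (q - 1) / d ∣ orderOf (proj g) := by
  obtain ⟨t, ht⟩ := IsCyclic.exists_ofOrder_eq_natCard (α := Fˣ)
  rw [Nat.card_units, Nat.card_eq_fintype_card, ← orderOf_units] at ht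
  have ht0 : (t : F) ≠ 0 := t.ne_zero
  set B : Matrix (Fin 2) (Fin 2) F := !![(t : F), 1; 0, (t : F)] with hBdef
  let C1 : Matrix (Fin 1) (Fin 1) F := Matrix.diagonal fun _ => B.det⁻¹
  have hB : B.det ≠ 0 := by rw [hBdef, Matrix.det_fin_two_of]; simp
  have hdet : (blockHom (F := F) (show 2 + 1 = 3 from rfl) (B, C1)).det = 1 := by
    rw [det_blockHom, Matrix.det_diagonal]
    simp [hB]
  let g : S3 := ⟨_, hdet⟩
  refine ⟨g, dvd_orderOf_of_pow (dvd_mul_of_dvd_right (Nat.gcd_dvd_right 3 (q - 1)) p) gcd_pos' ?_⟩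
  obtain ⟨c, hc, hg⟩ := exists_scalar g
  change blockHom (F := F) (show 2 + 1 = 3 from rfl) (B, C1) ^ orderOf (proj g) = c • 1 at hg
  rw [← map_pow, ← blockHom_smul_one (show 2 + 1 = 3 from rfl) c] at hg
  have hB' : B ^ orderOf (proj g) = c • 1 := congrArg Prod.fst (blockHom_injective _ hg)
  have hone : B ^ (orderOf (proj g) * d) = 1 := by
    rw [pow_mul, hB', _root_.smul_pow, one_pow, pow_gcd_card c hc, one_smul]
  rw [hBdef, jordan_pow, Matrix.one_fin_two] at hone
  set o := orderOf (proj g) * d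
  have h00 : (t : F) ^ o = 1 := congrFun (congrFun hone 0) 0
  have h01 : (o : F) * (t : F) ^ (o - 1) = 0 := congrFun (congrFun hone 0) 1
  have hpo : p ∣ o := by
    rcases mul_eq_zero.1 h01 with h | h
    · exact (CharP.cast_eq_zero_iff F p o).1 h
    · exact absurd h (pow_ne_zero _ ht0)
  have hqo : q - 1 ∣ o := ht ▸ orderOf_dvd_of_pow_eq_one h00
  refine Nat.Coprime.mul_dvd_of_dvd_of_dvd ?_ hpo hqo
  rw [(Fact.out : p.Prime).coprime_iff_not_dvd]
  intro hdvd
  obtain ⟨e, -, he⟩ := FiniteField.card F p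
  have h1 : p ∣ q := he ▸ dvd_pow_self p e.ne_zero
  have := Nat.dvd_sub h1 hdvd
  rw [show q - (q - 1) = 1 by have : 1 ≤ q := Fintype.card_pos; omega] at this
  exact (Fact.out : p.Prime).not_dvd_one this

/-- The spectrum of `PSL(3, q)`. -/
theorem range_orderOf (p : ℕ) [Fact p.Prime] [CharP F p] :
    Set.range (orderOf : Matrix.ProjectiveSpecialLinearGroup (Fin 3) F → ℕ) =
      {m : ℕ | m ∣ (q ^ 2 + q + 1) / d ∨ m ∣ (q ^ 2 - 1) / d ∨ m ∣ q - 1 ∨
        m ∣ p * (q - 1) / d ∨ (p = 2 ∧ m ∣ 4)} := by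
  ext m
  constructor
  · rintro ⟨x, rfl⟩
    obtain ⟨g, rfl⟩ := QuotientGroup.mk'_surjective (Subgroup.center S3) x
    have hd1 : d ∣ q - 1 := Nat.gcd_dvd_right 3 (q - 1)
    rcases orderOf_cases p g with h | h | h | h | h | h
    · exact Or.inl h
    · exact Or.inr (Or.inl h)
    · exact Or.inr (Or.inr (Or.inl h))
    · exact Or.inr (Or.inr (Or.inr (Or.inl h)))
    · exact Or.inr (Or.inr (Or.inr (Or.inr h)))
    · refine Or.inr (Or.inr (Or.inr (Or.inl (h.trans ?_))))
      rw [Nat.mul_div_assoc _ hd1]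
      exact dvd_mul_right _ _
  · have key : ∀ g : S3, m ∣ orderOf (proj g) →
        m ∈ Set.range (orderOf : Matrix.ProjectiveSpecialLinearGroup (Fin 3) F → ℕ) :=
      fun g hg => Spectrum.mem_range_orderOf_of_dvd ⟨proj g, rfl⟩ hg
    rintro (h | h | h | h | ⟨hp, h⟩)
    · obtain ⟨g, hg⟩ := exists_singer_order (F := F); exact key g (h.trans hg)
    · obtain ⟨g, hg⟩ := exists_block_order (F := F); exact key g (h.trans hg)
    · obtain ⟨g, hg⟩ := exists_split_order (F := F); exact key g (h.trans hg)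
    · obtain ⟨g, hg⟩ := exists_mixed_order (F := F) p; exact key g (h.trans hg)
    · subst hp
      refine key (Spec.uSL 3) (h.trans ?_)
      rw [Spec.orderOf_proj_unipotent 2 1 3 (by norm_num) (by norm_num) le_rfl]
      norm_num

end Cfsg.Agent.SpecGL
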